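import Groth.Agent.NormModelLib.Norm
import Groth.Agent.NormDescLib.NormalOrFree

/-!
# Ampleness descends to a finite birational model
-/

set_option autoImplicit false
universe u

open CategoryTheory CategoryTheory.Limits AlgebraicGeometry TopologicalSpace Opposite
open AmpleLib AmpleThLib
open TwistLib (genSet)
open KFlatLib (pb puSec)
open NormDescLib (HasBasis FreeOn DenseFree freeLoc rs rs_rs nrmF exists_saturated_cover exists_denseFree)

noncomputable section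

namespace NormModelLib

variable {X' X : Scheme.{u}} (g : X' ⟶ X) [IsFinite g] [Surjective g] [IsReduced X] [AlgebraicGeometry.IsNoetherian X] {R : ℕ}

/-- **There is a finite model carrying the norm forms.** -/
theorem exists_hasForms (hd : DenseFree g R) {W : X.Opens}
    (hW : ∀ x ∈ W, (IsDomain (X.presheaf.stalk x) ∧ IsIntegrallyClosed (X.presheaf.stalk x)) ∨
      ∃ (D : X.Opens) (n : ℕ), IsAffineOpen D ∧ x ∈ D ∧ HasBasis (g.app D).hom n) :
    ∃ M : Model (W ⊔ freeLoc g R), HasForms g R M := by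
  classical
  let Ω := W ⊔ freeLoc g R
  choose U₀ hU₀ hxU₀ _ using fun x : X => exists_isAffineOpen_mem_and_subset (x := x) (U := (⊤ : X.Opens)) trivial
  obtain ⟨t, ht⟩ := isCompact_univ.elim_finite_subcover (fun x => SetLike.coe (U₀ x)) (fun x => (U₀ x).2)
    fun x _ => Set.mem_iUnion.mpr ⟨x, hxU₀ x⟩
  let U : t → X.Opens := fun i => U₀ i.1
  have hU : ∀ i, IsAffineOpen (U i) := fun i => hU₀ i.1
  have hgen : ∀ i, ∃ (m : ℕ) (b : Fin m → Γ(X', g ⁻¹ᵁ U i)),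
      letI := (g.app (U i)).hom.toAlgebra; Submodule.span Γ(X, U i) (Set.range b) = ⊤ := fun i => by
    letI := (g.app (U i)).hom.toAlgebra
    haveI : Module.Finite Γ(X, U i) Γ(X', g ⁻¹ᵁ U i) := g.finite_app (U i) (hU i)
    exact Module.Finite.exists_fin (R := Γ(X, U i)) (M := Γ(X', g ⁻¹ᵁ U i))
  choose m b hb using hgen
  choose c hc hint using fun i ν => exists_coef hd hW (hU i) (b i) ν
  let S : ∀ i : t, Set X := fun i => {ξ | ξ ∈ genPts X ∧ ξ ∈ U i ⊓ Ω}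
  have hSfin : ∀ i, (S i).Finite := fun i => (finite_genPts X).subset fun ξ hξ => hξ.1
  haveI : ∀ i, Finite (S i) := fun i => (hSfin i).to_subtype
  choose G hG hGO hξG _ _ using fun (i : t) (s : S i) => exists_free_domain g hd s.2.1 s.2.2
  haveI := fun i => Fintype.ofFinite (S i)
  let F : ∀ (i : t) (s : S i), MvPolynomial (Fin (m i)) Γ(X, G i s) := fun i s =>
    formF (hG i s) fun l => rs (g.preimage_mono ((hGO i s).trans inf_le_left)) (b i l)
  let sup : ∀ i : t, Finset (Fin (m i) →₀ ℕ) := fun i => Finset.univ.biUnion fun s => (F i s).support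
  have hzero : ∀ i ν, ν ∉ sup i → c i ν = 0 := fun i ν hν => by
    refine eq_of_genPts fun ξ hξ hξO => ⟨G i ⟨ξ, hξ, hξO⟩, hGO i _, hξG i _, ?_⟩
    rw [hc i ν _ (hG i ⟨ξ, hξ, hξO⟩) (hGO i _)]
    refine Eq.trans ?_ (map_zero (X.presheaf.map (homOfLE (hGO i ⟨ξ, hξ, hξO⟩)).op).hom).symm
    exact MvPolynomial.notMem_support_iff.mp fun h => hν (Finset.mem_biUnion.mpr ⟨⟨ξ, hξ, hξO⟩, Finset.mem_univ _, h⟩)
  let K : Type u := Σ i : t, ULift.{u} (sup i)
  obtain ⟨T, q, hq, j, hj, hlift⟩ := exists_finite_lift Ω (K := K) (fun k => U k.1) (fun k => hU k.1)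
    (fun k => c k.1 k.2.down.1) (fun k => hint k.1 k.2.down.1)
  haveI := hq
  choose a ha using hlift
  haveI : QuasiCompact Ω.ι := inferInstance
  let M := imageModel Ω q j hj
  refine ⟨M, fun y => ?_⟩
  obtain ⟨x, hx, hyx⟩ := Set.mem_iUnion₂.mp (ht (Set.mem_univ y))
  let i : t := ⟨x, hx⟩
  refine ⟨U i, m i, b i, ∑ ν : sup i, MvPolynomial.monomial ν.1 (j.imageι.app (q ⁻¹ᵁ U i) (a ⟨i, ⟨ν⟩⟩)),
    hyx, hU i, hb i, fun G' hG' hle => ?_⟩
  refine MvPolynomial.ext _ _ fun μ => ?_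
  rw [map_sum]
  simp only [MvPolynomial.map_monomial, MvPolynomial.coeff_sum, MvPolynomial.coeff_monomial]
  have key : ∀ ν : sup i, ((X.presheaf.map (homOfLE hle).op).hom.comp (M.ρ (U i)).hom)
      (j.imageι.app (q ⁻¹ᵁ U i) (a ⟨i, ⟨ν⟩⟩)) = rs hle (c i ν.1) := fun ν => by
    show rs hle (M.ρ (U i) _) = _
    rw [imageModel_ρ_lift Ω q j hj (c i ν.1) _ (ha ⟨i, ⟨ν⟩⟩)]
  have hμ := hc i μ G' hG' hle
  change _ = coefF hG' (hle.trans inf_le_left) (b i) μ
  rw [← hμ]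
  by_cases hm : μ ∈ sup i
  · rw [Finset.sum_eq_single (⟨μ, hm⟩ : sup i) (fun ν _ hne => if_neg fun e => hne (Subtype.ext e))
      (fun h => absurd (Finset.mem_univ _) h), if_pos rfl, key]
  · rw [Finset.sum_eq_zero fun ν _ => if_neg fun (e : ν.1 = μ) => hm (e ▸ ν.2), hzero i μ hm]
    exact (map_zero _).symm

variable {g} {Ω : X.Opens} {M : Model Ω}

omit [Surjective g] [AlgebraicGeometry.IsNoetherian X] in
/-- The norm of a section of an inverse image, on the model. -/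
theorem exists_norm_section (hR : 1 ≤ R) (hd : DenseFree g R) (hF : HasForms g R M) {N : X.Modules}
    (hN : PicF.IsInvertible N) (σ : Γ(pb g N, ⊤)) {V : X.Opens}
    (hσ : genSet (AmpleDevLib.isInvertible_pb g hN) σ = g ⁻¹ᵁ V) :
    ∃ τ : Γ(pb M.h (CohB1.tensorPow N R), ⊤),
      genSet (AmpleDevLib.isInvertible_pb M.h (tensorPow_isInvertible hN R)) τ = M.h ⁻¹ᵁ V := by
  have hgen : ∀ a : Gens N, GenOn (pb g N) (puSec g a.2.1) := fun a => AmpleDevLib.puSec_genOn g a.2.2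
  choose c hc using fun a : Gens N => exists_coeff σ (hgen a)
  choose z hz using fun a : Gens N => exists_isNm hd hF a.1 (c a)
  let P := pb M.h (CohB1.tensorPow N R)
  have hP := AmpleDevLib.isInvertible_pb M.h (tensorPow_isInvertible hN R)
  have hgen' : ∀ a : Gens N, GenOn P (puSec M.h (pS a.2.1 R)) := fun a =>
    AmpleDevLib.puSec_genOn M.h (pS_genOn a.2.2 R)
  let sec : ∀ a : Gens N, Γ(P, M.h ⁻¹ᵁ a.1) := fun a => z a • puSec M.h (pS a.2.1 R)
  have hcompat : ∀ a b : Gens N,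
      res P (M.h.preimage_mono (inf_le_left : a.1 ⊓ b.1 ≤ a.1)) (sec a) =
      res P (M.h.preimage_mono (inf_le_right : a.1 ⊓ b.1 ≤ b.1)) (sec b) := by
    intro a b
    obtain ⟨t, ht⟩ := (a.2.2 (a.1 ⊓ b.1) inf_le_left).2 (res N inf_le_right b.2.1)
    dsimp only at ht
    have ha : g ⁻¹ᵁ (a.1 ⊓ b.1) ≤ g ⁻¹ᵁ a.1 := g.preimage_mono inf_le_left
    have hb : g ⁻¹ᵁ (a.1 ⊓ b.1) ≤ g ⁻¹ᵁ b.1 := g.preimage_mono inf_le_right
    have h1 : g.app (a.1 ⊓ b.1) t • res (pb g N) ha (puSec g a.2.1) = res (pb g N) hb (puSec g b.2.1) := by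
      rw [← TwistLib.puSec_res g inf_le_left, ← TwistLib.puSec_res g inf_le_right, ← ht, TwistLib.puSec_smul]
    have h2 : rs ha (c a) = rs hb (c b) * g.app (a.1 ⊓ b.1) t := by
      refine ((hgen a).res ha _ le_rfl).1 ?_
      dsimp only
      rw [res_refl]
      refine ((res_smul (pb g N) ha (c a) _).symm.trans (congrArg (res (pb g N) ha) (hc a))).trans ?_
      rw [res_res, mul_smul, h1, ← res_smul, hc b, res_res]
    have hza := (hz a).res (inf_le_left : a.1 ⊓ b.1 ≤ a.1)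
    have hzb := ((hz b).res (inf_le_right : a.1 ⊓ b.1 ≤ b.1)).mul (isNm_app (M := M) (g := g) (R := R) t)
    rw [← h2] at hzb
    have h3 := IsNm.unique hd hza hzb
    have e3 : puSec M.h (pS (res N (inf_le_right : a.1 ⊓ b.1 ≤ b.1) b.2.1) R) =
        M.h.app (a.1 ⊓ b.1) t ^ R • puSec M.h (pS (res N (inf_le_left : a.1 ⊓ b.1 ≤ a.1) a.2.1) R) := by
      rw [← ht, pS_smul, TwistLib.puSec_smul, map_pow]
    rw [res_smul, res_smul]
    change rs (M.h.preimage_mono inf_le_left) (z a) • res P (M.h.preimage_mono (inf_le_left : a.1 ⊓ b.1 ≤ a.1)) _ =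
      rs (M.h.preimage_mono inf_le_right) (z b) • res P (M.h.preimage_mono (inf_le_right : a.1 ⊓ b.1 ≤ b.1)) _
    rw [← TwistLib.puSec_res M.h (inf_le_left : a.1 ⊓ b.1 ≤ a.1), ← TwistLib.puSec_res M.h (inf_le_right : a.1 ⊓ b.1 ≤ b.1),
      pS_res, pS_res, e3, h3]
    exact mul_smul _ _ _
  obtain ⟨τ, hτ, -⟩ := TopCat.Sheaf.existsUnique_gluing'
    ((QCohLib.toAbF M.Z).obj P : TopCat.Sheaf AddCommGrpCat.{u} M.Z.toTopCat) (fun a : Gens N => M.h ⁻¹ᵁ a.1) ⊤
    (fun a => homOfLE le_top) (fun w _ => by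
      obtain ⟨a, ha⟩ := gens_cover hN (M.h w)
      exact Opens.mem_iSup.mpr ⟨a, ha⟩) sec hcompat
  have hloc : ∀ a : Gens N, genSet hP τ ⊓ M.h ⁻¹ᵁ a.1 = M.h ⁻¹ᵁ V ⊓ M.h ⁻¹ᵁ a.1 := fun a => by
    rw [mem_genSet_coeff hP τ (hgen' a) (hτ a).symm]
    refine (basicOpen_isNm hR hd hF (inf_le_right : V ⊓ a.1 ≤ a.1) (c a) ?_ (hz a)).trans rfl
    rw [← mem_genSet_coeff (AmpleDevLib.isInvertible_pb g hN) σ (hgen a) (hc a), hσ]
    rfl
  refine ⟨τ, ?_⟩
  ext w
  obtain ⟨a, ha⟩ := gens_cover hN (M.h w)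
  have := SetLike.ext_iff.mp (hloc a) w
  exact ⟨fun h => (this.mp ⟨h, ha⟩).1, fun h => (this.mpr ⟨h, ha⟩).1⟩

omit [AlgebraicGeometry.IsNoetherian X] in
/-- **Ampleness passes to a model carrying the norm forms.** -/
theorem isAmple_model (hR : 1 ≤ R) (hd : DenseFree g R) (hF : HasForms g R M) {L : X.Modules}
    (hL : PicF.IsInvertible L) (hA : CohB1.IsAmple (pb g L)) : CohB1.IsAmple (pb M.h L) := by
  haveI := M.fin
  haveI : CompactSpace X' := hA.2.1
  haveI : CompactSpace X := g.surjective.compactSpace g.continuous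
  haveI : CompactSpace M.Z := QuasiCompact.compactSpace_of_compactSpace M.h
  obtain ⟨n, hn, hcov⟩ := exists_saturated_cover g hA
  have hn' := tensorPow_isInvertible hL n
  refine (isAmple_iff (hL := AmpleDevLib.isInvertible_pb M.h hL)).mpr ⟨inferInstance, fun w => ?_⟩
  obtain ⟨V, hyV, hV, σ, hσ⟩ := hcov (M.h w)
  obtain ⟨φ, -⟩ := AmpleDevLib.exists_pullPowIso g hL n
  obtain ⟨τ, hτ⟩ := exists_norm_section hR hd hF hn' (φ.inv.app ⊤ σ) (V := V)
    ((genSet_iso (tensorPow_isInvertible (AmpleDevLib.isInvertible_pb g hL) n)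
      (AmpleDevLib.isInvertible_pb g hn') φ.symm σ).trans hσ)
  obtain ⟨ψ, -⟩ := exists_powIso hL n R
  obtain ⟨χ, -⟩ := AmpleDevLib.exists_pullPowIso M.h hL (n * R)
  let θ := (Scheme.Modules.pullback M.h).mapIso ψ ≪≫ χ
  exact ⟨n * R, M.h ⁻¹ᵁ V, Nat.mul_pos hn hR, ⟨θ.hom.app ⊤ τ,
    (genSet_iso (AmpleDevLib.isInvertible_pb M.h (tensorPow_isInvertible hn' R)) _ θ τ).trans hτ⟩, hyV,
    hV.preimage M.h⟩

/-- **A finite birational model to which ampleness descends.** -/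
theorem exists_model (g : X' ⟶ X) [IsFinite g] [Surjective g] (W : X.Opens)
    (hW : ∀ x ∈ W, (IsDomain (X.presheaf.stalk x) ∧ IsIntegrallyClosed (X.presheaf.stalk x)) ∨
      ∃ (D : X.Opens) (n : ℕ), IsAffineOpen D ∧ x ∈ D ∧ HasBasis (g.app D).hom n) :
    ∃ (Z : Scheme.{u}) (_ : IsReduced Z) (h : Z ⟶ X) (_ : IsFinite h), IsIso (h ∣_ W) ∧
      (∃ V : X.Opens, Dense (V : Set X) ∧ Dense ((h ⁻¹ᵁ V : Z.Opens) : Set Z) ∧ IsIso (h ∣_ V)) ∧
      ∀ L : X.Modules, PicF.IsInvertible L → CohB1.IsAmple (pb g L) → CohB1.IsAmple (pb h L) := by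
  obtain ⟨R, hR, hd⟩ := exists_denseFree g
  obtain ⟨M, hF⟩ := exists_hasForms g hd hW
  have hdense : Dense (freeLoc g R : Set X) := dense_iff_inter_open.mpr fun O hO ⟨y, hy⟩ => by
    obtain ⟨G, w, hG, hwG, hwO⟩ := hd ⟨O, hO⟩ y hy
    exact ⟨w, hwO, NormDescLib.le_freeLoc hG hwG⟩
  exact ⟨M.Z, M.red, M.h, M.fin, M.isIso_restrict le_sup_left,
    ⟨freeLoc g R, hdense, M.dense_preimage le_sup_right hdense, M.isIso_restrict le_sup_right⟩,
    fun L hL hA => isAmple_model hR hd hF hL hA⟩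

end NormModelLib
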