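import Groth.Agent.NormModelLib.Form
import Groth.Agent.NormDescLib.DenseGen
import Groth.Agent.NormDescLib.Image

/-!
# The coefficients of the norm form over normal or free points
-/

set_option autoImplicit false
universe u

open CategoryTheory CategoryTheory.Limits AlgebraicGeometry TopologicalSpace Opposite
open NormDescLib

noncomputable section

namespace NormModelLib

/-- The generic points. -/
def genPts (Y : Scheme.{u}) : Set Y := {ξ | ∀ z, z ⤳ ξ → z = ξ}

theorem closure_mem_components {Y : Scheme.{u}} {ξ : Y} (hξ : ξ ∈ genPts Y) :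
    closure {ξ} ∈ irreducibleComponents Y := by
  have hC := irreducibleComponent_mem_irreducibleComponents ξ
  have hcl := isClosed_of_mem_irreducibleComponents _ hC
  have hg := IsIrreducible.isGenericPoint_genericPoint hC.1 hcl
  have he : hC.1.genericPoint = ξ := hξ _ (hg.specializes mem_irreducibleComponent)
  rw [← he, hg.def]
  exact hC

theorem finite_genPts (Y : Scheme.{u}) [IsNoetherian Y] : (genPts Y).Finite := by
  refine Set.Finite.of_finite_image (f := fun ξ => closure {ξ}) ?_ fun a _ b _ h => ?_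
  · refine (TopologicalSpace.NoetherianSpace.finite_irreducibleComponents (α := Y)).subset ?_
    rintro _ ⟨ξ, hξ, rfl⟩
    exact closure_mem_components hξ
  · exact IsGenericPoint.eq (S := closure {b}) h rfl

theorem exists_genPt {Y : Scheme.{u}} {O : Y.Opens} {y : Y} (hy : y ∈ O) : ∃ ξ ∈ genPts Y, ξ ∈ O := by
  have hC := irreducibleComponent_mem_irreducibleComponents y
  have hcl := isClosed_of_mem_irreducibleComponents _ hC
  have hg := IsIrreducible.isGenericPoint_genericPoint hC.1 hcl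
  refine ⟨hC.1.genericPoint, fun z hz => ?_, (hg.specializes mem_irreducibleComponent).mem_open O.2 hy⟩
  have hsub : irreducibleComponent y ⊆ closure {z} := by
    rw [← hg.def]
    exact closure_minimal (Set.singleton_subset_iff.mpr (specializes_iff_mem_closure.mp hz)) isClosed_closure
  have heq : closure {z} = irreducibleComponent y := (hC.2 isIrreducible_singleton.closure hsub).antisymm hsub
  exact IsGenericPoint.eq (S := irreducibleComponent y) heq hg

/-- Near a generic point, inside a given open, there is a free open which is a domain. -/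
theorem exists_free_domain {X' X : Scheme.{u}} (g : X' ⟶ X) [IsFinite g] [Surjective g] [IsReduced X]
    [IsNoetherian X] {R : ℕ} (hd : DenseFree g R) {ξ : X} (hξ : ξ ∈ genPts X) {O : X.Opens} (hO : ξ ∈ O) :
    ∃ G : X.Opens, FreeOn g R G ∧ G ≤ O ∧ ξ ∈ G ∧ IsDomain Γ(X, G) ∧ IsPreirreducible (G : Set X) := by
  obtain ⟨G₀, n, hG₀, hξG₀, hb⟩ := exists_free_of_generic g ξ hξ
  have hF := freeOn_of_hasBasis hd hG₀ hξG₀ hb
  let S : Set (Set X) := irreducibleComponents X \ {closure {ξ}}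
  have hfin : S.Finite := (TopologicalSpace.NoetherianSpace.finite_irreducibleComponents (α := X)).sdiff
  let U₀ : X.Opens := ⟨(⋃₀ S)ᶜ, (by
    rw [Set.sUnion_eq_biUnion]
    exact (hfin.isClosed_biUnion fun C hC => isClosed_of_mem_irreducibleComponents C hC.1).isOpen_compl)⟩
  have hξU : ξ ∈ U₀ := by
    rintro ⟨C, ⟨hC, hne⟩, hmem⟩
    have hsub : closure {ξ} ⊆ C :=
      closure_minimal (Set.singleton_subset_iff.mpr hmem) (isClosed_of_mem_irreducibleComponents C hC)
    exact hne ((hsub.antisymm ((closure_mem_components hξ).2 hC.1 hsub)).symm)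
  have hU : (U₀ : Set X) ⊆ closure {ξ} := fun z hz => by
    by_contra h
    refine hz ⟨irreducibleComponent z, ⟨irreducibleComponent_mem_irreducibleComponents z, fun e => ?_⟩,
      mem_irreducibleComponent⟩
    exact h ((Set.mem_singleton_iff.mp e) ▸ mem_irreducibleComponent)
  obtain ⟨f, hf, hξf⟩ := hG₀.exists_basicOpen_le (V := O ⊓ U₀) ⟨ξ, hO, hξU⟩ hξG₀
  have hirr : IsPreirreducible (X.basicOpen f : Set X) :=
    (isIrreducible_singleton.closure.2).open_subset (X.basicOpen f).2 fun z hz => hU (hf hz).2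
  haveI : IrreducibleSpace (X.basicOpen f : Scheme.{u}) :=
    { toPreirreducibleSpace := Subtype.preirreducibleSpace hirr
      toNonempty := ⟨⟨ξ, hξf⟩⟩ }
  haveI : IsIntegral (X.basicOpen f : Scheme.{u}) := isIntegral_of_irreducibleSpace_of_isReduced _
  exact ⟨_, hF.basicOpen f, fun z hz => (hf hz).1, hξf,
    (X.basicOpen f).topIso.symm.commRingCatIsoToRingEquiv.toMulEquiv.isDomain _, hirr⟩

/-- Sections agreeing at the generic points of a reduced scheme agree. -/
theorem eq_of_genPts {X : Scheme.{u}} [IsReduced X] {V : X.Opens} {t t' : Γ(X, V)}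
    (h : ∀ ξ ∈ genPts X, ξ ∈ V → ∃ (G : X.Opens) (hle : G ≤ V), ξ ∈ G ∧ rs hle t = rs hle t') : t = t' := by
  refine sub_eq_zero.mp (eq_zero_of_basicOpen_eq_bot _ (eq_bot_iff.mpr fun y hy => ?_))
  exfalso
  obtain ⟨ξ, hξ, hξb⟩ := exists_genPt hy
  obtain ⟨G, hGV, hξG, e⟩ := h ξ hξ (X.basicOpen_le _ hξb)
  have hu := (X.mem_basicOpen (t - t') ξ (hGV hξG)).mp hξb
  rw [← TopCat.Presheaf.germ_res_apply X.presheaf (homOfLE hGV) ξ hξG, map_sub,
    show X.presheaf.map (homOfLE hGV).op t = X.presheaf.map (homOfLE hGV).op t' from e, sub_self, map_zero] at hu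
  exact not_isUnit_zero hu

theorem isIntegral_coeff_pow {A₀ A : Type u} [CommRing A₀] [CommRing A] [Algebra A₀ A] {m : ℕ}
    {P : MvPolynomial (Fin m) A} (h : ∀ ν, IsIntegral A₀ (P.coeff ν)) (k : ℕ) :
    ∀ ν, IsIntegral A₀ ((P ^ k).coeff ν) := by
  classical
  induction k with
  | zero =>
    intro ν
    rw [pow_zero, MvPolynomial.coeff_one]
    split_ifs
    · exact isIntegral_one
    · exact isIntegral_zero
  | succ k ih =>
    intro ν
    rw [pow_succ, MvPolynomial.coeff_mul]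
    exact IsIntegral.sum _ fun x _ => (ih x.1).mul (h x.2)

variable {X' X : Scheme.{u}} {g : X' ⟶ X} [IsFinite g] {R m : ℕ}

/-- On a free domain the coefficients are integral. -/
theorem isIntegralElem_coefF {U G : X.Opens} (hU : IsAffineOpen U) (hG : FreeOn g R G) (h : G ≤ U)
    [IsDomain Γ(X, G)] (b : Fin m → Γ(X', g ⁻¹ᵁ U)) (ν : Fin m →₀ ℕ) :
    (X.presheaf.map (homOfLE h).op).hom.IsIntegralElem (coefF hG h b ν) := by
  letI := (g.app G).hom.toAlgebra
  letI := (g.app U).hom.toAlgebra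
  letI := (X.presheaf.map (homOfLE h).op).hom.toAlgebra
  haveI : Module.Finite Γ(X, U) Γ(X', g ⁻¹ᵁ U) := g.finite_app U hU
  exact isIntegral_coeff_pow (fun ν => isIntegral_coeff_normPoly (X'.presheaf.map (homOfLE (g.preimage_mono h)).op).hom
    (fun a => (app_rs h a).symm) _ b ν) _ ν

variable [Surjective g] [IsReduced X] [IsNoetherian X]

theorem exists_isCoef_near (hd : DenseFree g R) {W : X.Opens}
    (hW : ∀ x ∈ W, (IsDomain (X.presheaf.stalk x) ∧ IsIntegrallyClosed (X.presheaf.stalk x)) ∨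
      ∃ (D : X.Opens) (n : ℕ), IsAffineOpen D ∧ x ∈ D ∧ HasBasis (g.app D).hom n)
    {U : X.Opens} (hU : IsAffineOpen U) (b : Fin m → Γ(X', g ⁻¹ᵁ U)) (ν : Fin m →₀ ℕ) {y : X}
    (hy : y ∈ U ⊓ (W ⊔ freeLoc g R)) :
    ∃ (V : X.Opens) (hV : V ≤ U ⊓ (W ⊔ freeLoc g R)), y ∈ V ∧ ∃ t : Γ(X, V),
      IsCoef R (hV.trans inf_le_left) b ν t := by
  have free : ∀ D : X.Opens, FreeOn g R D → y ∈ D → ∃ (V : X.Opens) (hV : V ≤ U ⊓ (W ⊔ freeLoc g R)), y ∈ V ∧
      ∃ t : Γ(X, V), IsCoef R (hV.trans inf_le_left) b ν t := fun D hD hyD => by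
    obtain ⟨f, hf, hyf⟩ := hD.1.exists_basicOpen_le (V := U ⊓ (W ⊔ freeLoc g R)) ⟨y, hy⟩ hyD
    exact ⟨_, hf, hyf, _, isCoef_coefF (hD.basicOpen f) (hf.trans inf_le_left) b ν⟩
  rcases hy.2 with hyW | hyF
  swap
  · obtain ⟨⟨G, hG⟩, hyG⟩ := Opens.mem_iSup.mp hyF
    exact free G hG hyG
  rcases hW y hyW with ⟨hdom, hic⟩ | ⟨D, n, hD, hyD, hb⟩
  swap
  · exact free D (freeOn_of_hasBasis hd hD hyD hb) hyD
  obtain ⟨W₁, hyW₁, hi⟩ := Groth.Agent.Sweep9Lib.exists_irreducible_nhd X y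
    (by rw [nilradical_eq_zero]; exact Ideal.isPrime_bot)
  obtain ⟨V, hV, hyV, hVle⟩ := exists_isAffineOpen_mem_and_subset (x := y) (U := U ⊓ W ⊓ W₁) ⟨⟨hy.1, hyW⟩, hyW₁⟩
  have hirr : IsPreirreducible (V : Set X) := hi.2.open_subset V.2 (fun z hz => (hVle hz).2)
  haveI : IrreducibleSpace (V : Scheme.{u}) :=
    { toPreirreducibleSpace := Subtype.preirreducibleSpace hirr
      toNonempty := ⟨⟨y, hyV⟩⟩ }
  haveI : IsIntegral (V : Scheme.{u}) := isIntegral_of_irreducibleSpace_of_isReduced _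
  haveI : IsDomain Γ(X, V) := V.topIso.symm.commRingCatIsoToRingEquiv.toMulEquiv.isDomain _
  have hVU : V ≤ U := fun z hz => (hVle hz).1.1
  obtain ⟨ξ, hξ, hξV⟩ := exists_genPt hyV
  obtain ⟨G₀, hG₀, hG₀V, hξG₀, -, -⟩ := exists_free_domain g hd hξ hξV
  obtain ⟨c, f, hcf, hξc⟩ := exists_basicOpen_le_affine_inter hV hG₀.1 ξ ⟨hξV, hξG₀⟩
  have hG : FreeOn g R (X.basicOpen c) := hcf ▸ hG₀.basicOpen f
  have hc0 : c ≠ 0 := fun h => by
    rw [h, Scheme.basicOpen_zero] at hξc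
    exact hξc
  have hcU : X.basicOpen c ≤ U := (X.basicOpen_le c).trans hVU
  letI := (X.presheaf.map (homOfLE (X.basicOpen_le c)).op).hom.toAlgebra
  haveI : IsLocalization.Away c Γ(X, X.basicOpen c) :=
    hV.isLocalization_of_eq_basicOpen c (homOfLE (X.basicOpen_le c)) rfl
  haveI : IsDomain Γ(X, X.basicOpen c) := IsLocalization.isDomain_of_le_nonZeroDivisors Γ(X, X.basicOpen c)
    (powers_le_nonZeroDivisors_of_noZeroDivisors hc0)
  have hint : IsIntegral Γ(X, V) (coefF hG hcU b ν) := by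
    obtain ⟨p, hp, hp0⟩ := isIntegralElem_coefF hU hG hcU b ν
    refine ⟨p.map (X.presheaf.map (homOfLE hVU).op).hom, hp.map _, ?_⟩
    rw [Polynomial.eval₂_map, show (algebraMap Γ(X, V) Γ(X, X.basicOpen c)).comp
      (X.presheaf.map (homOfLE hVU).op).hom = (X.presheaf.map (homOfLE hcU).op).hom from
      RingHom.ext fun z => rs_rs hVU (X.basicOpen_le c) z]
    exact hp0
  let p := (hV.primeIdealOf ⟨y, hyV⟩).asIdeal
  letI := TopCat.Presheaf.algebra_section_stalk X.presheaf (⟨y, hyV⟩ : V)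
  haveI := hV.isLocalization_stalk ⟨y, hyV⟩
  haveI := hic
  haveI : IsIntegrallyClosed (Localization.AtPrime p) :=
    IsIntegrallyClosed.of_equiv (IsLocalization.algEquiv p.primeCompl (X.presheaf.stalk y) (Localization.AtPrime p)).toRingEquiv
  obtain ⟨d, hdp, a, ha⟩ := exists_denom_of_isIntegral hc0 p hint
  have hyd : y ∈ X.basicOpen d := by
    have hmem : hV.primeIdealOf ⟨y, hyV⟩ ∈ hV.fromSpec ⁻¹ᵁ X.basicOpen d := by
      rw [hV.fromSpec_preimage_basicOpen]
      exact hdp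
    have h : hV.fromSpec (hV.primeIdealOf ⟨y, hyV⟩) ∈ X.basicOpen d := hmem
    rwa [hV.fromSpec_primeIdealOf ⟨y, hyV⟩] at h
  have hdV : X.basicOpen d ≤ V := X.basicOpen_le d
  obtain ⟨e, he⟩ : ∃ e : Γ(X, X.basicOpen d), e * rs hdV d = 1 :=
    (RingedSpace.isUnit_res_basicOpen X.toRingedSpace d).exists_left_inv
  have hdU : X.basicOpen d ≤ U ⊓ (W ⊔ freeLoc g R) := fun z hz =>
    ⟨hVU (hdV hz), Or.inl (hVle (hdV hz)).1.2⟩
  refine ⟨_, hdU, hyd, rs hdV a * e, fun G' hG' hGd => ?_⟩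
  by_cases hGe : ∃ w, w ∈ G'
  swap
  · exact eq_of_germ fun w hw => (hGe ⟨w, hw⟩).elim
  obtain ⟨w, hw⟩ := hGe
  obtain ⟨v, -, hvG, hvc⟩ := hirr _ _ G'.2 (X.basicOpen c).2 ⟨w, hdV (hGd hw), hw⟩ ⟨ξ, hξV, hξc⟩
  refine sub_eq_zero.mp (eq_zero_of_rs hirr (hGd.trans hdV) (inf_le_left : G' ⊓ X.basicOpen c ≤ G') ⟨v, hvG, hvc⟩ ?_)
  change X.presheaf.map _ _ = 0
  rw [map_sub, sub_eq_zero]
  have e1 := coefF_compat hG' hG ((hGd.trans hdV).trans hVU) hcU b ν
    (V := G' ⊓ X.basicOpen c) inf_le_left inf_le_right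
  change rs _ (rs hGd (rs hdV a * e)) = rs _ (coefF hG' _ b ν)
  rw [rs_rs, e1, rs_mul, rs_rs]
  have h1 := congrArg (rs (inf_le_right : G' ⊓ X.basicOpen c ≤ X.basicOpen c)) ha
  change rs _ (rs (X.basicOpen_le c) a) = rs _ (rs (X.basicOpen_le c) d * _) at h1
  rw [rs_mul, rs_rs, rs_rs] at h1
  have h2 := congrArg (rs (inf_le_left.trans hGd : G' ⊓ X.basicOpen c ≤ X.basicOpen d)) he
  rw [rs_mul, rs_rs, rs_one] at h2
  rw [h1, mul_comm _ (rs _ e), ← mul_assoc, h2, one_mul]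

/-- **The coefficients of the norm form extend over the normal or free points, and are integral.** -/
theorem exists_coef (hd : DenseFree g R) {W : X.Opens}
    (hW : ∀ x ∈ W, (IsDomain (X.presheaf.stalk x) ∧ IsIntegrallyClosed (X.presheaf.stalk x)) ∨
      ∃ (D : X.Opens) (n : ℕ), IsAffineOpen D ∧ x ∈ D ∧ HasBasis (g.app D).hom n)
    {U : X.Opens} (hU : IsAffineOpen U) (b : Fin m → Γ(X', g ⁻¹ᵁ U)) (ν : Fin m →₀ ℕ) :
    ∃ t : Γ(X, U ⊓ (W ⊔ freeLoc g R)), IsCoef R inf_le_left b ν t ∧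
      (X.presheaf.map (homOfLE (inf_le_left : U ⊓ (W ⊔ freeLoc g R) ≤ U)).op).hom.IsIntegralElem t := by
  classical
  let O : X.Opens := U ⊓ (W ⊔ freeLoc g R)
  choose V hV hyV t ht using fun y : O => exists_isCoef_near hd hW hU b ν y.2
  obtain ⟨T, hT, -⟩ := X.sheaf.existsUnique_gluing' V O (fun y => homOfLE (hV y))
    (fun y hy => Opens.mem_iSup.mpr ⟨⟨y, hy⟩, hyV _⟩) t fun y z =>
      IsCoef.unique hd ((ht y).res (inf_le_left : V y ⊓ V z ≤ V y)) ((ht z).res inf_le_right)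
  have hTc : IsCoef R (inf_le_left : O ≤ U) b ν T := fun G hG hGO => eq_of_germ fun z hz => by
    let i : O := ⟨z, hGO hz⟩
    obtain ⟨f, hf, hzf⟩ := hG.1.exists_basicOpen_le (V := V i) ⟨z, hyV _⟩ hz
    have h1 := ht i _ (hG.basicOpen f) hf
    rw [← show rs (hV i) T = t i from hT _, rs_rs] at h1
    have h2 := coefF_basic hG (hGO.trans inf_le_left) f (hG.basicOpen f) b ν
    have h3 := congrArg (X.presheaf.germ _ z hzf) (h1.trans h2.symm)
    simp only [rs, TopCat.Presheaf.germ_res_apply] at h3 ⊢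
    exact h3
  refine ⟨T, hTc, ?_⟩
  let S := {ξ // ξ ∈ genPts X ∧ ξ ∈ O}
  haveI : Finite S := ((finite_genPts X).subset fun ξ (h : ξ ∈ genPts X ∧ ξ ∈ O) => h.1).to_subtype
  haveI := Fintype.ofFinite S
  choose G hG hGO hξG hdom hirr using fun s : S => exists_free_domain g hd s.2.1 s.2.2
  choose p hp hp0 using fun s : S =>
    haveI := hdom s
    isIntegralElem_coefF hU (hG s) ((hGO s).trans inf_le_left) b ν
  refine ⟨∏ s, p s, Polynomial.monic_prod_of_monic _ _ fun s _ => hp s, ?_⟩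
  refine eq_of_genPts fun ξ hξ hξO => ⟨G ⟨ξ, hξ, hξO⟩, hGO _, hξG _, ?_⟩
  let s : S := ⟨ξ, hξ, hξO⟩
  change X.presheaf.map (homOfLE (hGO s)).op (Polynomial.eval₂ _ T _) = X.presheaf.map (homOfLE (hGO s)).op 0
  rw [map_zero, Polynomial.hom_eval₂,
    show (X.presheaf.map (homOfLE (hGO s)).op).hom.comp (X.presheaf.map (homOfLE (inf_le_left : O ≤ U)).op).hom =
      (X.presheaf.map (homOfLE ((hGO s).trans inf_le_left)).op).hom from RingHom.ext fun z => rs_rs _ (hGO s) z,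
    show (X.presheaf.map (homOfLE (hGO s)).op).hom T = coefF (hG s) _ b ν from hTc _ (hG s) (hGO s),
    Polynomial.eval₂_finsetProd]
  exact Finset.prod_eq_zero (Finset.mem_univ s) (hp0 s)

end NormModelLib
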