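import Groth.Agent.NormModelLib.NormPoly
import Groth.Agent.NormDescLib.Dense

/-!
# Norm forms on free opens
-/

set_option autoImplicit false
universe u

open CategoryTheory CategoryTheory.Limits AlgebraicGeometry TopologicalSpace Opposite
open NormDescLib

noncomputable section

namespace NormModelLib

/-- The norm form along a ring map with a basis. -/
def normPolyR {A B : Type u} [CommRing A] [CommRing B] (i : A →+* B) {n m : ℕ} (h : HasBasis i n)
    (b : Fin m → B) : MvPolynomial (Fin m) A :=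
  letI := i.toAlgebra
  normPoly (h : Nonempty (Module.Basis (Fin n) A B)).some b

theorem eval_normPolyR {A B : Type u} [CommRing A] [CommRing B] (i : A →+* B) {n m : ℕ} (h : HasBasis i n)
    (b : Fin m → B) (a : Fin m → A) :
    MvPolynomial.eval a (normPolyR i h b) = normR i (∑ l, i (a l) * b l) := by
  letI := i.toAlgebra
  refine (eval_normPoly _ b a).trans ?_
  exact congrArg (Algebra.norm A) (Finset.sum_congr rfl fun l _ => Algebra.smul_def _ _)

theorem normPolyR_away {A B A' B' : Type u} [CommRing A] [CommRing B] [CommRing A'] [CommRing B'] {i : A →+* B}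
    {i' : A' →+* B'} (ρA : A →+* A') (ρB : B →+* B') (comm : i'.comp ρA = ρB.comp i) (f : A)
    (hA : letI := ρA.toAlgebra; IsLocalization.Away f A')
    (hB : letI := ρB.toAlgebra; IsLocalization.Away (i f) B') {n m : ℕ} (h : HasBasis i n) (h' : HasBasis i' n)
    (b : Fin m → B) :
    MvPolynomial.map ρA (normPolyR i h b) = normPolyR i' h' fun l => ρB (b l) := by
  letI := i.toAlgebra
  letI := ρA.toAlgebra
  letI := ρB.toAlgebra
  letI := i'.toAlgebra
  letI : Algebra A B' := (ρB.comp i).toAlgebra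
  haveI : IsScalarTower A B B' := IsScalarTower.of_algebraMap_eq fun _ => rfl
  haveI : IsScalarTower A A' B' := IsScalarTower.of_algebraMap_eq fun x => (RingHom.congr_fun comm x).symm
  haveI : IsLocalization (Submonoid.powers f) A' := hA
  haveI : IsLocalization (Algebra.algebraMapSubmonoid B (Submonoid.powers f)) B' := by
    rw [Algebra.algebraMapSubmonoid_powers]
    exact hB
  let e := (h : Nonempty (Module.Basis (Fin n) A B)).some
  refine (map_normPoly ρA ρB (fun a => RingHom.congr_fun comm a) e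
    (e.localizationLocalization A' (Submonoid.powers f) B') (fun j => ?_) b).trans (normPoly_indep _ _ _)
  exact e.localizationLocalization_apply A' (Submonoid.powers f) B' j

variable {X Y : Scheme.{u}} {π : X ⟶ Y} {R : ℕ} {m : ℕ}

/-- The norm form of degree `R` over a free open. -/
def formF {G : Y.Opens} (hG : FreeOn π R G) (b : Fin m → Γ(X, π ⁻¹ᵁ G)) : MvPolynomial (Fin m) Γ(Y, G) :=
  normPolyR (π.app G).hom hG.2.choose_spec.2.2 b ^ (R / hG.2.choose)

theorem eval_formF {G : Y.Opens} (hG : FreeOn π R G) (b : Fin m → Γ(X, π ⁻¹ᵁ G)) (a : Fin m → Γ(Y, G)) :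
    MvPolynomial.eval a (formF hG b) = nrmF π hG (∑ l, π.app G (a l) * b l) := by
  rw [formF, map_pow, eval_normPolyR]
  rfl

theorem formF_basic [IsAffineHom π] {G : Y.Opens} (hG : FreeOn π R G) (f : Γ(Y, G))
    (hf : FreeOn π R (Y.basicOpen f)) (b : Fin m → Γ(X, π ⁻¹ᵁ G)) :
    MvPolynomial.map (Y.presheaf.map (homOfLE (Y.basicOpen_le f)).op).hom (formF hG b) =
      formF hf fun l => rs (π.preimage_mono (Y.basicOpen_le f)) (b l) := by
  rcases subsingleton_or_nontrivial Γ(Y, Y.basicOpen f) with hs | hs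
  · exact Subsingleton.elim _ _
  have he : hf.2.choose = hG.2.choose :=
    hasBasis_unique hf.2.choose_spec.2.2 (FreeOn.basic π (d := R) hG.1 f hG.2.choose_spec.2.2).1
  have key : ∀ {n' : ℕ} (h' : HasBasis (π.app (Y.basicOpen f)).hom n'), n' = hG.2.choose →
      MvPolynomial.map (Y.presheaf.map (homOfLE (Y.basicOpen_le f)).op).hom
        (normPolyR (π.app G).hom hG.2.choose_spec.2.2 b) =
        normPolyR (π.app (Y.basicOpen f)).hom h' fun l => rs (π.preimage_mono (Y.basicOpen_le f)) (b l) := by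
    intro n' h' e
    subst e
    exact normPolyR_away (Y.presheaf.map (homOfLE (Y.basicOpen_le f)).op).hom
      (X.presheaf.map (homOfLE (π.preimage_mono (Y.basicOpen_le f))).op).hom
      (RingHom.ext fun a => app_rs (Y.basicOpen_le f) a) f
      (hG.1.isLocalization_of_eq_basicOpen f (homOfLE (Y.basicOpen_le f)) rfl)
      ((hG.1.preimage π).isLocalization_of_eq_basicOpen _ (homOfLE (π.preimage_mono (Y.basicOpen_le f)))
        (Scheme.preimage_basicOpen π f)) hG.2.choose_spec.2.2 h' b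
  rw [formF, formF, map_pow, key hf.2.choose_spec.2.2 he]
  exact congrArg (fun k => normPolyR (π.app (Y.basicOpen f)).hom hf.2.choose_spec.2.2 (fun l => rs (π.preimage_mono (Y.basicOpen_le f)) (b l)) ^ (R / k)) he.symm

/-- The coefficient of the norm form of sections over `U`. -/
def coefF {U G : Y.Opens} (hG : FreeOn π R G) (h : G ≤ U) (b : Fin m → Γ(X, π ⁻¹ᵁ U)) (ν : Fin m →₀ ℕ) :
    Γ(Y, G) :=
  (formF hG fun l => rs (π.preimage_mono h) (b l)).coeff ν

theorem coefF_basic [IsAffineHom π] {U G : Y.Opens} (hG : FreeOn π R G) (h : G ≤ U) (f : Γ(Y, G))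
    (hf : FreeOn π R (Y.basicOpen f)) (b : Fin m → Γ(X, π ⁻¹ᵁ U)) (ν : Fin m →₀ ℕ) :
    rs (Y.basicOpen_le f) (coefF hG h b ν) = coefF hf ((Y.basicOpen_le f).trans h) b ν := by
  have h1 := congrArg (fun P => MvPolynomial.coeff ν P) (formF_basic hG f hf fun l => rs (π.preimage_mono h) (b l))
  simp only [MvPolynomial.coeff_map, rs_rs] at h1
  exact h1

theorem coefF_compat [IsAffineHom π] {U D E : Y.Opens} (hD : FreeOn π R D) (hE : FreeOn π R E)
    (hDU : D ≤ U) (hEU : E ≤ U) (b : Fin m → Γ(X, π ⁻¹ᵁ U)) (ν : Fin m →₀ ℕ) {V : Y.Opens} (hVD : V ≤ D)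
    (hVE : V ≤ E) : rs hVD (coefF hD hDU b ν) = rs hVE (coefF hE hEU b ν) := by
  refine eq_of_germ fun y hy => ?_
  obtain ⟨f, g, hfg, hyf⟩ := exists_basicOpen_le_affine_inter hD.1 hE.1 y ⟨hVD hy, hVE hy⟩
  have key : ∀ {W W' : Y.Opens} (e : W = W') (hW : FreeOn π R W) (hW' : FreeOn π R W') (h : W ≤ U) (h' : W' ≤ U)
      (hyW : y ∈ W) (hyW' : y ∈ W'),
      Y.presheaf.germ W y hyW (coefF hW h b ν) = Y.presheaf.germ W' y hyW' (coefF hW' h' b ν) := by
    intro W W' e _ _ _ _ _ _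
    subst e
    rfl
  have h1 := coefF_basic hD hDU f (hD.basicOpen f) b ν
  have h2 := coefF_basic hE hEU g (hE.basicOpen g) b ν
  have hk := key hfg (hD.basicOpen f) (hE.basicOpen g) ((Y.basicOpen_le f).trans hDU)
    ((Y.basicOpen_le g).trans hEU) hyf (hfg ▸ hyf)
  rw [← h1, ← h2] at hk
  simp only [rs, TopCat.Presheaf.germ_res_apply] at hk ⊢
  exact hk

variable (R) in
/-- `t` is the coefficient of the norm form on every free open. -/
def IsCoef {U V : Y.Opens} (hVU : V ≤ U) (b : Fin m → Γ(X, π ⁻¹ᵁ U)) (ν : Fin m →₀ ℕ) (t : Γ(Y, V)) : Prop :=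
  ∀ G (hG : FreeOn π R G) (h : G ≤ V), rs h t = coefF hG (h.trans hVU) b ν

theorem IsCoef.res {U V V' : Y.Opens} {hVU : V ≤ U} {b : Fin m → Γ(X, π ⁻¹ᵁ U)} {ν : Fin m →₀ ℕ} {t : Γ(Y, V)}
    (ht : IsCoef R hVU b ν t) (h : V' ≤ V) : IsCoef R (h.trans hVU) b ν (rs h t) := fun G hG hGV => by
  rw [rs_rs]
  exact ht G hG (hGV.trans h)

theorem eq_of_free [IsAffineHom π] [IsReduced Y] (hd : DenseFree π R) {V : Y.Opens} {t t' : Γ(Y, V)}
    (h : ∀ G (_ : FreeOn π R G) (hle : G ≤ V), rs hle t = rs hle t') : t = t' := by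
  refine sub_eq_zero.mp (eq_zero_of_basicOpen_eq_bot _ (eq_bot_iff.mpr fun y hy => ?_))
  exfalso
  obtain ⟨G, z, hG, hzG, hle⟩ := hd.exists_le hy
  have hGV : G ≤ V := hle.trans (Y.basicOpen_le _)
  have hu := (Y.mem_basicOpen (t - t') z (hGV hzG)).mp (hle hzG)
  rw [← TopCat.Presheaf.germ_res_apply Y.presheaf (homOfLE hGV) z hzG, map_sub,
    show Y.presheaf.map (homOfLE hGV).op t = Y.presheaf.map (homOfLE hGV).op t' from h G hG hGV, sub_self,
    map_zero] at hu
  exact not_isUnit_zero hu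

theorem IsCoef.unique [IsAffineHom π] [IsReduced Y] (hd : DenseFree π R) {U V : Y.Opens} {hVU : V ≤ U}
    {b : Fin m → Γ(X, π ⁻¹ᵁ U)} {ν : Fin m →₀ ℕ} {t t' : Γ(Y, V)} (ht : IsCoef R hVU b ν t)
    (ht' : IsCoef R hVU b ν t') : t = t' :=
  eq_of_free hd fun G hG hle => (ht G hG hle).trans (ht' G hG hle).symm

theorem isCoef_coefF [IsAffineHom π] {U D : Y.Opens} (hD : FreeOn π R D) (hDU : D ≤ U)
    (b : Fin m → Γ(X, π ⁻¹ᵁ U)) (ν : Fin m →₀ ℕ) : IsCoef R hDU b ν (coefF hD hDU b ν) := fun G hG h => by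
  have e := coefF_compat hD hG hDU (h.trans hDU) b ν (V := G) h le_rfl
  rw [rs_refl] at e
  exact e

end NormModelLib
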