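import Groth.Agent.S7382
import Groth.Agent.ModDescLib.Main
import Mathlib.AlgebraicGeometry.Normalization
import Mathlib.AlgebraicGeometry.Noetherian

/-!
# Finitely many integral functions on an open live on a finite scheme
-/

set_option autoImplicit false
universe u

open CategoryTheory CategoryTheory.Limits AlgebraicGeometry TopologicalSpace Opposite

noncomputable section

namespace NormModelLib

variable {X : Scheme.{u}}

theorem preimage_le_ι (Ω U : X.Opens) : Ω.ι ⁻¹ᵁ U ≤ Ω.ι ⁻¹ᵁ (U ⊓ Ω) := fun x hx => ⟨hx, x.2⟩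

/-- An integral function on an affine part of an open comes from the normalization in the open. -/
theorem exists_normalization_elem [IsNoetherian X] (Ω : X.Opens) {U : X.Opens} (hU : IsAffineOpen U)
    (c : Γ(X, U ⊓ Ω)) (hc : (X.presheaf.map (homOfLE (inf_le_left : U ⊓ Ω ≤ U)).op).hom.IsIntegralElem c) :
    ∃ w : Γ(Ω.ι.normalization, Ω.ι.fromNormalization ⁻¹ᵁ U),
      Ω.ι.toNormalization.appLE _ (Ω.ι ⁻¹ᵁ U) (by rw [← Scheme.Hom.comp_preimage,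
        Scheme.Hom.toNormalization_fromNormalization]) w =
        Ω.ι.appLE (U ⊓ Ω) (Ω.ι ⁻¹ᵁ U) (preimage_le_ι Ω U) c := by
  letI := (Ω.ι.app U).hom.toAlgebra
  let c' := Ω.ι.appLE (U ⊓ Ω) (Ω.ι ⁻¹ᵁ U) (preimage_le_ι Ω U) c
  have hint : IsIntegral Γ(X, U) c' := by
    obtain ⟨p, hp, hp0⟩ := hc
    refine ⟨p, hp, ?_⟩
    have hcomp : (Ω.ι.appLE (U ⊓ Ω) (Ω.ι ⁻¹ᵁ U) (preimage_le_ι Ω U)).hom.comp
        (X.presheaf.map (homOfLE (inf_le_left : U ⊓ Ω ≤ U)).op).hom = (Ω.ι.app U).hom := by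
      rw [← CommRingCat.hom_comp, Scheme.Hom.map_appLE, ← Scheme.Hom.app_eq_appLE]
    change Polynomial.eval₂ (Ω.ι.app U).hom c' p = 0
    rw [← hcomp, ← Polynomial.hom_eval₂, hp0, map_zero]
  refine ⟨(Ω.ι.normalizationObjIso hU).inv ⟨c', hint⟩, ?_⟩
  rw [← Scheme.Hom.normalizationObjIso_hom_val Ω.ι hU, CommRingCat.comp_apply,
    ← CommRingCat.comp_apply (Ω.ι.normalizationObjIso hU).inv, Iso.inv_hom_id]
  rfl

/-- **Finitely many integral functions on an open live on a finite scheme.** -/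
theorem exists_finite_lift [IsNoetherian X] (Ω : X.Opens) {K : Type u} [Finite K] (U : K → X.Opens)
    (hU : ∀ k, IsAffineOpen (U k)) (c : ∀ k, Γ(X, U k ⊓ Ω))
    (hc : ∀ k, (X.presheaf.map (homOfLE (inf_le_left : U k ⊓ Ω ≤ U k)).op).hom.IsIntegralElem (c k)) :
    ∃ (T : Scheme.{u}) (q : T ⟶ X) (_ : IsFinite q) (j : Ω.toScheme ⟶ T) (hj : j ≫ q = Ω.ι),
      ∀ k, ∃ a : Γ(T, q ⁻¹ᵁ U k),
        j.appLE _ (Ω.ι ⁻¹ᵁ U k) (by rw [← Scheme.Hom.comp_preimage, hj]) a =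
          Ω.ι.appLE (U k ⊓ Ω) (Ω.ι ⁻¹ᵁ U k) (preimage_le_ι Ω (U k)) (c k) := by
  obtain ⟨I, _, _, _, D, cn, hcn, hfin, ⟨e⟩⟩ := Groth.Agent.S7382.result Ω.ι.fromNormalization
  haveI : _root_.IsDirectedOrder I := ‹_›
  haveI : CategoryTheory.IsConnected Iᵒᵖ := IsCofiltered.isConnected _
  let D' := D ⋙ Over.forget X
  let c' : Cone D' := (Over.forget X).mapCone cn
  let hc' : IsLimit c' := isLimitOfPreserves (Over.forget X) hcn
  let q₀ : ∀ i, D'.obj i ⟶ X := fun i => (D.obj i).hom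
  haveI : ∀ i, IsFinite (q₀ i) := fun i => (hfin i).1
  haveI : ∀ (i i' : Iᵒᵖ) (a : i ⟶ i'), IsAffineHom (D'.map a) := fun i i' a => by
    have hw : D'.map a ≫ q₀ i' = q₀ i := Over.w (D.map a)
    haveI : IsAffineHom (D'.map a ≫ q₀ i') := by rw [hw]; infer_instance
    exact IsAffineHom.of_comp (D'.map a) (q₀ i')
  haveI : ∀ i, CompactSpace (D'.obj i) := fun i => QuasiCompact.compactSpace_of_compactSpace (q₀ i)
  haveI : ∀ i, QuasiSeparatedSpace (D'.obj i) := fun i => quasiSeparatedSpace_of_quasiSeparated (q₀ i)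
  obtain ⟨i₀⟩ := IsCofiltered.nonempty (C := Iᵒᵖ)
  let ψ : c'.pt ⟶ Ω.ι.normalization := e.hom.left
  have hψ : ∀ i, c'.π.app i ≫ q₀ i = ψ ≫ Ω.ι.fromNormalization := fun i =>
    (Over.w (cn.π.app i)).trans (Over.w e.hom).symm
  choose w hw using fun k => exists_normalization_elem Ω (hU k) (c k) (hc k)
  let V : K → (D'.obj i₀).Opens := fun k => q₀ i₀ ⁻¹ᵁ U k
  have hV : ∀ k, IsAffineOpen (V k) := fun k => (hU k).preimage _
  have hle : ∀ k, c'.π.app i₀ ⁻¹ᵁ V k ≤ ψ ⁻¹ᵁ (Ω.ι.fromNormalization ⁻¹ᵁ U k) := fun k =>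
    (congrArg (· ⁻¹ᵁ U k) (hψ i₀)).le
  obtain ⟨φ, hφ⟩ := RichLib.LimBC.exists_stage (I := Over i₀) (ι := K)
    (fun k φ => ∃ a : Γ(D'.obj φ.left, D'.map φ.hom ⁻¹ᵁ V k),
      (c'.π.app φ.left).appLE (D'.map φ.hom ⁻¹ᵁ V k) (c'.π.app i₀ ⁻¹ᵁ V k)
        (ModDescLib.preimage_le_stage φ (V k)) a = ψ.appLE _ _ (hle k) (w k))
    (fun k φ φ' g ⟨a, ha⟩ => ⟨(D'.map (Over.Hom.left g)).appLE _ (D'.map φ'.hom ⁻¹ᵁ V k)
      (ModDescLib.preimage_le_map g (V k)) a, by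
        rw [← CommRingCat.comp_apply, Scheme.Hom.appLE_comp_appLE]
        simp only [c'.w]
        exact ha⟩)
    (fun k => ModDescLib.exists_lift_section hc' (hV k) _)
  let P : c'.pt ⟶ D'.obj φ.left := c'.π.app φ.left
  let P₀ : c'.pt ⟶ D'.obj i₀ := c'.π.app i₀
  let G : Ω.toScheme ⟶ c'.pt := Ω.ι.toNormalization ≫ e.inv.left
  have hG : G ≫ ψ = Ω.ι.toNormalization := by
    refine (Category.assoc _ _ _).trans ?_
    exact (congrArg (Ω.ι.toNormalization ≫ ·) (congrArg CommaMorphism.left e.inv_hom_id)).trans (Category.comp_id _)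
  let q : D'.obj φ.left ⟶ X := q₀ φ.left
  let j : Ω.toScheme ⟶ D'.obj φ.left := G ≫ P
  have hj : j ≫ q = Ω.ι := by
    refine (Category.assoc _ _ _).trans ?_
    rw [show P ≫ q = ψ ≫ Ω.ι.fromNormalization from hψ φ.left, ← Category.assoc, hG,
      Scheme.Hom.toNormalization_fromNormalization]
  refine ⟨_, q, hfin _ |>.1, j, hj, fun k => ?_⟩
  obtain ⟨a, ha⟩ := hφ k
  have hqV : q ⁻¹ᵁ U k = D'.map φ.hom ⁻¹ᵁ V k :=
    (congrArg (· ⁻¹ᵁ U k) (Over.w (D.map φ.hom) : D'.map φ.hom ≫ q₀ i₀ = q₀ φ.left)).symm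
  refine ⟨(D'.obj φ.left).presheaf.map (homOfLE hqV.le).op a, ?_⟩
  have h2 : Ω.ι ⁻¹ᵁ U k ≤ G ⁻¹ᵁ (P₀ ⁻¹ᵁ V k) := by
    have e1 : G ≫ P₀ ≫ q₀ i₀ = Ω.ι := by
      rw [show P₀ ≫ q₀ i₀ = ψ ≫ Ω.ι.fromNormalization from hψ i₀, ← Category.assoc, hG,
        Scheme.Hom.toNormalization_fromNormalization]
    exact (congrArg (· ⁻¹ᵁ U k) e1.symm).le
  have ha' : P.appLE (D'.map φ.hom ⁻¹ᵁ V k) (P₀ ⁻¹ᵁ V k) (ModDescLib.preimage_le_stage φ (V k)) a =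
      ψ.appLE (Ω.ι.fromNormalization ⁻¹ᵁ U k) (P₀ ⁻¹ᵁ V k) (hle k) (w k) := ha
  have h3 := congrArg (G.appLE (P₀ ⁻¹ᵁ V k) (Ω.ι ⁻¹ᵁ U k) h2) ha'
  rw [← CommRingCat.comp_apply, ← CommRingCat.comp_apply, Scheme.Hom.appLE_comp_appLE,
    Scheme.Hom.appLE_comp_appLE] at h3
  rw [← CommRingCat.comp_apply, Scheme.Hom.map_appLE]
  simp only [hG] at h3
  exact h3.trans (hw k)

end NormModelLib
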