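import Groth.Agent.NormModelLib.Coef
import Groth.Agent.NormModelLib.Stage
import Groth.Agent.MiscFlat6.MorSmall
import Mathlib.AlgebraicGeometry.Morphisms.ClosedImmersion

/-!
# A finite birational model carrying the norm forms
-/

set_option autoImplicit false
universe u

open CategoryTheory CategoryTheory.Limits AlgebraicGeometry TopologicalSpace Opposite
open NormDescLib

noncomputable section

namespace NormModelLib

/-- A finite model of `X` embedded in the open `Ω`: its functions are functions on the parts of `Ω`. -/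
structure Model {X : Scheme.{u}} (Ω : X.Opens) where
  Z : Scheme.{u}
  h : Z ⟶ X
  fin : IsFinite h
  red : IsReduced Z
  ρ : ∀ V : X.Opens, Γ(Z, h ⁻¹ᵁ V) ⟶ Γ(X, V ⊓ Ω)
  ρ_inj : ∀ V, Function.Injective (ρ V)
  ρ_app : ∀ V (a : Γ(X, V)), ρ V (h.app V a) = rs inf_le_left a
  ρ_res : ∀ {V V' : X.Opens} (i : V' ≤ V) (z : Γ(Z, h ⁻¹ᵁ V)),
    ρ V' (rs (h.preimage_mono i) z) = rs (inf_le_inf_right Ω i) (ρ V z)

variable {X : Scheme.{u}}

theorem inf_le_image (Ω V : X.Opens) : V ⊓ Ω ≤ Ω.ι ''ᵁ (Ω.ι ⁻¹ᵁ V) := fun x hx => ⟨⟨x, hx.2⟩, hx.1, rfl⟩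

/-- Functions on a part of an open as functions on the whole scheme. -/
def outMap (Ω V : X.Opens) : Γ(Ω.toScheme, Ω.ι ⁻¹ᵁ V) ⟶ Γ(X, V ⊓ Ω) :=
  (Ω.ι.appIso (Ω.ι ⁻¹ᵁ V)).inv ≫ X.presheaf.map (homOfLE (inf_le_image Ω V)).op

theorem outMap_appLE (Ω : X.Opens) {U V : X.Opens} (e : Ω.ι ⁻¹ᵁ V ≤ Ω.ι ⁻¹ᵁ U) (hle : V ⊓ Ω ≤ U) :
    Ω.ι.appLE U (Ω.ι ⁻¹ᵁ V) e ≫ outMap Ω V = X.presheaf.map (homOfLE hle).op := by
  rw [outMap, ← Category.assoc, Scheme.Hom.appLE_appIso_inv, ← X.presheaf.map_comp]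
  rfl

theorem outMap_injective (Ω V : X.Opens) : Function.Injective (outMap Ω V) := by
  have he : Ω.ι ''ᵁ (Ω.ι ⁻¹ᵁ V) = V ⊓ Ω := le_antisymm
    (fun x => by rintro ⟨y, hy, rfl⟩; exact ⟨hy, y.2⟩) (inf_le_image Ω V)
  haveI : IsIso (X.presheaf.map (homOfLE (inf_le_image Ω V)).op) := by
    rw [show homOfLE (inf_le_image Ω V) = eqToHom he.symm from Subsingleton.elim _ _]
    infer_instance
  haveI : IsIso (outMap Ω V) := by unfold outMap; infer_instance
  exact (ConcreteCategory.bijective_of_isIso (outMap Ω V)).1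

theorem outMap_naturality (Ω : X.Opens) {V V' : X.Opens} (i : V' ≤ V) :
    Ω.toScheme.presheaf.map (homOfLE (Ω.ι.preimage_mono i)).op ≫ outMap Ω V' =
      outMap Ω V ≫ X.presheaf.map (homOfLE (inf_le_inf_right Ω i)).op := by
  unfold outMap
  simp only [Scheme.Hom.appIso_inv_naturality_assoc, Category.assoc, ← X.presheaf.map_comp]
  rfl

/-- The model cut out by a finite scheme under `Ω`. -/
def imageModel (Ω : X.Opens) [IsReduced X] [QuasiCompact Ω.ι] {T : Scheme.{u}} (q : T ⟶ X) [IsFinite q]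
    (j : Ω.toScheme ⟶ T) (hj : j ≫ q = Ω.ι) : Model Ω where
  Z := j.image
  h := j.imageι ≫ q
  fin := MorphismProperty.comp_mem _ _ _ inferInstance inferInstance
  red := MiscFlat6.isReduced_image j
  ρ V := j.toImage.appLE _ (Ω.ι ⁻¹ᵁ V) (by
    rw [← Scheme.Hom.comp_preimage, j.toImage_imageι_assoc, hj]) ≫ outMap Ω V
  ρ_app V a := by
    rw [← CommRingCat.comp_apply, ← Category.assoc, Scheme.Hom.app_eq_appLE, Scheme.Hom.appLE_comp_appLE]
    simp only [j.toImage_imageι_assoc, hj]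
    rw [outMap_appLE Ω le_rfl inf_le_left]
  ρ_res {V V'} i z := by
    change _ = X.presheaf.map _ ((_ ≫ outMap Ω V) z)
    rw [← CommRingCat.comp_apply, ← CommRingCat.comp_apply, Scheme.Hom.map_appLE_assoc,
      Category.assoc, ← outMap_naturality Ω i, Scheme.Hom.appLE_map_assoc]
  ρ_inj V := by
    haveI : QuasiCompact j := by
      haveI : QuasiCompact (j ≫ q) := by rw [hj]; infer_instance
      exact QuasiCompact.of_comp j q
    haveI : IsFinite (j.imageι ≫ q) := MorphismProperty.comp_mem _ _ _ inferInstance inferInstance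
    let h := j.imageι ≫ q
    let ψ : ∀ V : X.Opens, Γ(j.image, h ⁻¹ᵁ V) ⟶ Γ(Ω.toScheme, Ω.ι ⁻¹ᵁ V) := fun V =>
      j.toImage.appLE _ (Ω.ι ⁻¹ᵁ V) (by rw [← Scheme.Hom.comp_preimage, j.toImage_imageι_assoc, hj])
    have hψ : ∀ V : X.Opens, IsAffineOpen V → Function.Injective (ψ V) := fun V hV => by
      have h1 : Function.Injective (j.toImage.app (h ⁻¹ᵁ V)) :=
        j.toImage_app_injective (U := ⟨q ⁻¹ᵁ V, hV.preimage q⟩)
      have he : Ω.ι ⁻¹ᵁ V = j.toImage ⁻¹ᵁ (h ⁻¹ᵁ V) := by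
        rw [← Scheme.Hom.comp_preimage, j.toImage_imageι_assoc, hj]
      simp only [ψ, Scheme.Hom.appLE]
      rw [show homOfLE (he.le) = eqToHom he from Subsingleton.elim _ _]
      intro a b e
      exact h1 ((ConcreteCategory.bijective_of_isIso (Ω.toScheme.presheaf.map (eqToHom he).op)).1 e)
    intro a b hab
    have hab' : ψ V a = ψ V b := outMap_injective Ω V hab
    refine TopCat.Presheaf.section_ext j.image.sheaf _ a b fun z hz => ?_
    obtain ⟨D, hD, hzD, hDV⟩ := exists_isAffineOpen_mem_and_subset (x := h z) (U := V) hz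
    have h2 : ψ D (rs (h.preimage_mono hDV) a) = ψ D (rs (h.preimage_mono hDV) b) := by
      have h3 := congrArg (Ω.toScheme.presheaf.map (homOfLE (Ω.ι.preimage_mono hDV)).op) hab'
      simp only [ψ, rs, ← CommRingCat.comp_apply, Scheme.Hom.map_appLE, Scheme.Hom.appLE_map] at h3 ⊢
      exact h3
    have h4 := congrArg (j.image.presheaf.germ _ z hzD) (hψ D hD h2)
    simp only [rs, TopCat.Presheaf.germ_res_apply] at h4
    exact h4

theorem imageModel_ρ_lift (Ω : X.Opens) [IsReduced X] [QuasiCompact Ω.ι] {T : Scheme.{u}} (q : T ⟶ X) [IsFinite q]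
    (j : Ω.toScheme ⟶ T) (hj : j ≫ q = Ω.ι) {U : X.Opens} (c : Γ(X, U ⊓ Ω)) (a : Γ(T, q ⁻¹ᵁ U))
    (ha : j.appLE _ (Ω.ι ⁻¹ᵁ U) (by rw [← Scheme.Hom.comp_preimage, hj]) a =
      Ω.ι.appLE (U ⊓ Ω) (Ω.ι ⁻¹ᵁ U) (preimage_le_ι Ω U) c) :
    (imageModel Ω q j hj).ρ U (j.imageι.app (q ⁻¹ᵁ U) a) = c := by
  change (j.toImage.appLE (j.imageι ⁻¹ᵁ (q ⁻¹ᵁ U)) (Ω.ι ⁻¹ᵁ U) _ ≫ outMap Ω U) _ = c
  rw [← CommRingCat.comp_apply, ← Category.assoc, Scheme.Hom.app_eq_appLE, Scheme.Hom.appLE_comp_appLE]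
  simp only [j.toImage_imageι]
  rw [CommRingCat.comp_apply, ha, ← CommRingCat.comp_apply, outMap_appLE Ω _ le_rfl]
  exact AmpleLib.res_refl (Coh.structureModule X) c

namespace Model

variable {Ω : X.Opens} (M : Model Ω)

theorem bijective_app {D : X.Opens} (hD : D ≤ Ω) : Function.Bijective (M.h.app D) := by
  have hb : Function.Bijective (fun a : Γ(X, D) => rs (inf_le_left : D ⊓ Ω ≤ D) a) := by
    haveI : IsIso (X.presheaf.map (homOfLE (inf_le_left : D ⊓ Ω ≤ D)).op) := by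
      rw [show homOfLE (inf_le_left : D ⊓ Ω ≤ D) = eqToHom (inf_eq_left.mpr hD) from Subsingleton.elim _ _]
      infer_instance
    exact ConcreteCategory.bijective_of_isIso (X.presheaf.map (homOfLE (inf_le_left : D ⊓ Ω ≤ D)).op)
  refine ⟨fun a b e => hb.1 ?_, fun z => ?_⟩
  · have := congrArg (M.ρ D) e
    rwa [M.ρ_app, M.ρ_app] at this
  · obtain ⟨a, ha⟩ := hb.2 (M.ρ D z)
    exact ⟨a, M.ρ_inj D ((M.ρ_app D a).trans ha)⟩

/-- The model does not change `Ω`. -/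
theorem isIso_restrict {W : X.Opens} (hW : W ≤ Ω) : IsIso (M.h ∣_ W) := by
  haveI := M.fin
  haveI : IsFinite (M.h ∣_ W) := IsZariskiLocalAtTarget.restrict M.fin W
  change MorphismProperty.isomorphisms Scheme (M.h ∣_ W)
  rw [IsZariskiLocalAtTarget.iff_of_iSup_eq_top (P := MorphismProperty.isomorphisms Scheme) _
    (iSup_affineOpens_eq_top W.toScheme)]
  intro D
  haveI : IsAffine (D.1 : Scheme) := D.2
  haveI : IsAffine ((M.h ∣_ W) ⁻¹ᵁ D.1 : Scheme) := D.2.preimage (M.h ∣_ W)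
  show IsIso ((M.h ∣_ W) ∣_ D.1)
  haveI : IsIso ((M.h ∣_ W).app D.1) := by
    rw [morphismRestrict_app M.h W D.1]
    haveI h1 : IsIso (M.h.app (W.ι ''ᵁ D.1)) :=
      (ConcreteCategory.isIso_iff_bijective _).mpr (M.bijective_app ((W.ι_image_le D.1).trans hW))
    exact @IsIso.comp_isIso _ _ _ _ _ _ _ h1 (Functor.map_isIso _ _)
  haveI : IsIso (((M.h ∣_ W) ∣_ D.1).appTop) := by
    rw [Scheme.Hom.appTop, morphismRestrict_app]
    haveI h1 : IsIso ((M.h ∣_ W).app (D.1.ι ''ᵁ ⊤)) := by rw [Scheme.Opens.ι_image_top]; infer_instance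
    exact @IsIso.comp_isIso _ _ _ _ _ _ _ h1 (Functor.map_isIso _ _)
  have e : ((M.h ∣_ W) ∣_ D.1) = ((M.h ∣_ W) ⁻¹ᵁ D.1).toScheme.isoSpec.hom ≫
      Spec.map ((M.h ∣_ W) ∣_ D.1).appTop ≫ D.1.toScheme.isoSpec.inv := by
    rw [← Category.assoc, Iso.eq_comp_inv]
    exact (Scheme.isoSpec_hom_naturality _).symm
  rw [e]
  infer_instance

/-- The part over a dense part of `Ω` is dense. -/
theorem dense_preimage [IsReduced X] {V : X.Opens} (hV : V ≤ Ω) (hd : Dense (V : Set X)) :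
    Dense ((M.h ⁻¹ᵁ V : M.Z.Opens) : Set M.Z) := by
  haveI := M.fin
  haveI := M.red
  rw [dense_iff_inter_open]
  intro O hO ⟨z, hz⟩
  by_contra hne
  obtain ⟨D, hD, hzD, -⟩ := exists_isAffineOpen_mem_and_subset (x := M.h z) (U := (⊤ : X.Opens)) trivial
  obtain ⟨f, hf, hzf⟩ := (hD.preimage M.h).exists_basicOpen_le (V := ⟨O, hO⟩) ⟨z, hz⟩ hzD
  have hf0 : f = 0 := by
    refine M.ρ_inj D ((eq_of_dense hd (U := D ⊓ Ω) (t := M.ρ D f) (t' := 0) fun y hy => ?_).trans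
      (map_zero (M.ρ D).hom).symm)
    have h1 : rs (M.h.preimage_mono (inf_le_left : D ⊓ V ≤ D)) f = 0 := by
      refine eq_zero_of_basicOpen_eq_bot _ (eq_bot_iff.mpr fun w hw => ?_)
      have hw' : w ∈ M.h ⁻¹ᵁ (D ⊓ V) ⊓ M.Z.basicOpen f := by
        rw [← Scheme.basicOpen_res]
        exact hw
      exact (hne ⟨w, hf hw'.2, hw'.1.2⟩).elim
    have h2 := congrArg (M.ρ (D ⊓ V)) h1
    rw [M.ρ_res (inf_le_left : D ⊓ V ≤ D), map_zero] at h2
    have hy' : y ∈ D ⊓ V ⊓ Ω := ⟨⟨hy.1.1, hy.2⟩, hy.1.2⟩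
    have h3 := congrArg (X.presheaf.germ (D ⊓ V ⊓ Ω) y hy') h2
    simp only [rs, TopCat.Presheaf.germ_res_apply, map_zero] at h3 ⊢
    exact h3
  rw [hf0, Scheme.basicOpen_zero] at hzf
  exact hzf
where
  eq_of_dense {V : X.Opens} (hd : Dense (V : Set X)) {U : X.Opens} {t t' : Γ(X, U)}
      (h : ∀ y (hy : y ∈ U ⊓ V), X.presheaf.germ U y hy.1 t = X.presheaf.germ U y hy.1 t') : t = t' := by
    refine sub_eq_zero.mp (eq_zero_of_basicOpen_eq_bot _ (eq_bot_iff.mpr fun y hy => ?_))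
    obtain ⟨w, hw, hwV⟩ := hd.inter_open_nonempty _ (X.basicOpen (t - t')).2 ⟨y, hy⟩
    have hu := (X.mem_basicOpen (t - t') w (X.basicOpen_le _ hw)).mp hw
    rw [map_sub, h w ⟨X.basicOpen_le _ hw, hwV⟩, sub_self] at hu
    exact (not_isUnit_zero hu).elim

end Model

end NormModelLib
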