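import Groth.Agent.NormModelLib.Model
import Groth.Agent.NormDescLib.Ample

/-!
# The norm with values in a model
-/

set_option autoImplicit false
universe u

open CategoryTheory CategoryTheory.Limits AlgebraicGeometry TopologicalSpace Opposite
open NormDescLib

noncomputable section

namespace NormModelLib

variable {X' X : Scheme.{u}} {g : X' ⟶ X} {R : ℕ}

theorem exists_comb [IsAffineHom g] {U : X.Opens} (hU : IsAffineOpen U) {m : ℕ} (b : Fin m → Γ(X', g ⁻¹ᵁ U))
    (hb : letI := (g.app U).hom.toAlgebra; Submodule.span Γ(X, U) (Set.range b) = ⊤) (f : Γ(X, U))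
    (s : Γ(X', g ⁻¹ᵁ X.basicOpen f)) :
    ∃ a : Fin m → Γ(X, X.basicOpen f),
      ∑ l, g.app _ (a l) * rs (g.preimage_mono (X.basicOpen_le f)) (b l) = s := by
  let ρ := (X'.presheaf.map (homOfLE (g.preimage_mono (X.basicOpen_le f))).op).hom
  letI := ρ.toAlgebra
  letI := (g.app U).hom.toAlgebra
  haveI : IsLocalization.Away (g.app U f) Γ(X', g ⁻¹ᵁ X.basicOpen f) :=
    (hU.preimage g).isLocalization_of_eq_basicOpen _ (homOfLE (g.preimage_mono (X.basicOpen_le f)))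
      (Scheme.preimage_basicOpen g f)
  obtain ⟨⟨s', ⟨_, k, rfl⟩⟩, hk⟩ := IsLocalization.surj (Submonoid.powers (g.app U f)) s
  obtain ⟨a, ha⟩ := (Submodule.mem_span_range_iff_exists_fun Γ(X, U)).mp (hb.ge (Submodule.mem_top : s' ∈ _))
  obtain ⟨e, he⟩ : ∃ e : Γ(X, X.basicOpen f), e * rs (X.basicOpen_le f) f = 1 :=
    (RingedSpace.isUnit_res_basicOpen X.toRingedSpace f).exists_left_inv
  refine ⟨fun l => e ^ k * rs (X.basicOpen_le f) (a l), ?_⟩
  have h1 : ∀ z : Γ(X, U), g.app _ (rs (X.basicOpen_le f) z) = ρ (g.app U z) := fun z => app_rs (X.basicOpen_le f) z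
  simp only [map_mul, map_pow, h1, mul_assoc, ← Finset.mul_sum]
  have h2 : ∑ l, ρ (g.app U (a l)) * rs (g.preimage_mono (X.basicOpen_le f)) (b l) = ρ s' := by
    rw [← ha, map_sum]
    exact Finset.sum_congr rfl fun l _ => (map_mul ρ _ _).symm
  rw [h2, show ρ s' = s * ρ (g.app U f) ^ k from ?_, ← mul_assoc, mul_comm _ s, mul_assoc, ← mul_pow, ← h1, ← map_mul,
    he, map_one, one_pow, mul_one]
  rw [← map_pow]
  exact hk.symm

variable {Ω : X.Opens} (M : Model Ω)

variable (g R) in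
/-- The model carries the norm forms of a cover. -/
def HasForms : Prop :=
  ∀ y : X, ∃ (U : X.Opens) (m : ℕ) (b : Fin m → Γ(X', g ⁻¹ᵁ U)) (Q : MvPolynomial (Fin m) Γ(M.Z, M.h ⁻¹ᵁ U)),
    y ∈ U ∧ IsAffineOpen U ∧ (letI := (g.app U).hom.toAlgebra; Submodule.span Γ(X, U) (Set.range b) = ⊤) ∧
    ∀ (G : X.Opens) (hG : FreeOn g R G) (h : G ≤ U ⊓ Ω),
      MvPolynomial.map ((X.presheaf.map (homOfLE h).op).hom.comp (M.ρ U).hom) Q =
        formF hG fun l => rs (g.preimage_mono (h.trans inf_le_left)) (b l)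

variable (g R) in
/-- `z` is the norm of `s`. -/
def IsNm {U : X.Opens} (s : Γ(X', g ⁻¹ᵁ U)) (z : Γ(M.Z, M.h ⁻¹ᵁ U)) : Prop :=
  ∀ G (hG : FreeOn g R G) (h : G ≤ U ⊓ Ω),
    rs h (M.ρ U z) = nrmF g hG (rs (g.preimage_mono (h.trans inf_le_left)) s)

variable {M}

theorem IsNm.unique [IsAffineHom g] [IsReduced X] (hd : DenseFree g R) {U : X.Opens} {s : Γ(X', g ⁻¹ᵁ U)}
    {z z' : Γ(M.Z, M.h ⁻¹ᵁ U)} (hz : IsNm g R M s z) (hz' : IsNm g R M s z') : z = z' :=
  M.ρ_inj U (eq_of_free hd fun G hG h => (hz G hG h).trans (hz' G hG h).symm)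

theorem IsNm.res {U V : X.Opens} (hVU : V ≤ U) {s : Γ(X', g ⁻¹ᵁ U)} {z : Γ(M.Z, M.h ⁻¹ᵁ U)}
    (hz : IsNm g R M s z) : IsNm g R M (rs (g.preimage_mono hVU) s) (rs (M.h.preimage_mono hVU) z) :=
  fun G hG h => by
    rw [M.ρ_res hVU, rs_rs, rs_rs]
    exact hz G hG (h.trans (inf_le_inf_right Ω hVU))

theorem IsNm.mul {U : X.Opens} {s s' : Γ(X', g ⁻¹ᵁ U)} {z z' : Γ(M.Z, M.h ⁻¹ᵁ U)} (hz : IsNm g R M s z)
    (hz' : IsNm g R M s' z') : IsNm g R M (s * s') (z * z') := fun G hG h => by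
  rw [map_mul, rs_mul, rs_mul, map_mul, hz G hG h, hz' G hG h]

theorem isNm_one {U : X.Opens} : IsNm g R M (U := U) 1 1 := fun G hG h => by
  rw [map_one, rs_one, rs_one, map_one]

theorem IsNm.pow {U : X.Opens} {s : Γ(X', g ⁻¹ᵁ U)} {z : Γ(M.Z, M.h ⁻¹ᵁ U)} (hz : IsNm g R M s z) (k : ℕ) :
    IsNm g R M (s ^ k) (z ^ k) := fun G hG h => by
  rw [map_pow, rs_pow, rs_pow, map_pow, hz G hG h]

theorem isNm_app {U : X.Opens} (t : Γ(X, U)) : IsNm g R M (g.app U t) (M.h.app U t ^ R) := fun G hG h => by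
  rw [map_pow, M.ρ_app, rs_pow, rs_rs, ← app_rs, nrmF_app]

/-- The value of a form is the norm of the combination. -/
theorem isNm_eval {U D : X.Opens} {m : ℕ} {b : Fin m → Γ(X', g ⁻¹ᵁ U)} {Q : MvPolynomial (Fin m) Γ(M.Z, M.h ⁻¹ᵁ U)}
    (hQ : ∀ (G : X.Opens) (hG : FreeOn g R G) (h : G ≤ U ⊓ Ω),
      MvPolynomial.map ((X.presheaf.map (homOfLE h).op).hom.comp (M.ρ U).hom) Q =
        formF hG fun l => rs (g.preimage_mono (h.trans inf_le_left)) (b l))
    (hDU : D ≤ U) (a : Fin m → Γ(X, D)) :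
    IsNm g R M (∑ l, g.app D (a l) * rs (g.preimage_mono hDU) (b l))
      (MvPolynomial.eval (fun l => M.h.app D (a l))
        (MvPolynomial.map (M.Z.presheaf.map (homOfLE (M.h.preimage_mono hDU)).op).hom Q)) := fun G hG h => by
  let φ := (X.presheaf.map (homOfLE h).op).hom.comp (M.ρ D).hom
  have hφ : φ.comp (M.Z.presheaf.map (homOfLE (M.h.preimage_mono hDU)).op).hom =
      (X.presheaf.map (homOfLE (h.trans (inf_le_inf_right Ω hDU))).op).hom.comp (M.ρ U).hom :=
    RingHom.ext fun z => by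
      show rs h (M.ρ D (rs _ z)) = rs _ (M.ρ U z)
      rw [M.ρ_res hDU, rs_rs]
  change φ (MvPolynomial.eval _ _) = _
  rw [MvPolynomial.eval_map, MvPolynomial.eval₂_comp_left, hφ, ← MvPolynomial.eval_map, hQ G hG _, eval_formF]
  refine congrArg (nrmF g hG) ?_
  rw [rs, map_sum]
  refine Finset.sum_congr rfl fun l _ => ?_
  change _ = rs _ (g.app D (a l) * rs _ (b l))
  rw [rs_mul, rs_rs, ← app_rs]
  refine congrArg (fun x => g.app G x * _) ?_
  show rs h (M.ρ D (M.h.app D (a l))) = _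
  rw [M.ρ_app, rs_rs]

theorem exists_isNm [IsFinite g] [IsReduced X] (hd : DenseFree g R) (hF : HasForms g R M) (U : X.Opens)
    (s : Γ(X', g ⁻¹ᵁ U)) : ∃ z, IsNm g R M s z := by
  have hloc : ∀ y : U, ∃ (D : X.Opens) (hDU : D ≤ U), y.1 ∈ D ∧ ∃ z, IsNm g R M (rs (g.preimage_mono hDU) s) z := by
    intro y
    obtain ⟨U₀, m, b, Q, hy, hU₀, hb, hQ⟩ := hF y.1
    obtain ⟨f, hf, hyf⟩ := hU₀.exists_basicOpen_le (V := U) y hy
    obtain ⟨a, ha⟩ := exists_comb hU₀ b hb f (rs (g.preimage_mono hf) s)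
    have h := isNm_eval hQ (X.basicOpen_le f) a
    rw [ha] at h
    exact ⟨_, hf, hyf, _, h⟩
  choose D hDU hyD z hz using hloc
  obtain ⟨T, hT, -⟩ := M.Z.sheaf.existsUnique_gluing' (fun y : U => M.h ⁻¹ᵁ D y) (M.h ⁻¹ᵁ U)
    (fun y => homOfLE (M.h.preimage_mono (hDU y)))
    (fun w hw => Opens.mem_iSup.mpr ⟨⟨M.h w, hw⟩, hyD ⟨M.h w, hw⟩⟩) z fun a b => by
      have h1 := (hz a).res (inf_le_left : D a ⊓ D b ≤ D a)
      have h2 := (hz b).res (inf_le_right : D a ⊓ D b ≤ D b)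
      rw [rs_rs] at h1 h2
      exact IsNm.unique hd h1 h2
  refine ⟨T, fun G hG h => eq_of_germ fun y hy => ?_⟩
  let i : U := ⟨y, (h hy).1⟩
  obtain ⟨f, hf, hyf⟩ := hG.1.exists_basicOpen_le (V := D i) ⟨y, hyD i⟩ hy
  have h1 := hz i _ (hG.basicOpen f) (le_inf hf ((X.basicOpen_le f).trans (h.trans inf_le_right)))
  rw [← show rs (M.h.preimage_mono (hDU i)) T = z i from hT i, M.ρ_res (hDU i), rs_rs, rs_rs] at h1
  have h2 := nrmF_basic hG f (hG.basicOpen f) (rs (g.preimage_mono (h.trans inf_le_left)) s)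
  rw [rs_rs] at h2
  have h3 := congrArg (X.presheaf.germ _ y hyf) (h1.trans h2.symm)
  simp only [rs, TopCat.Presheaf.germ_res_apply] at h3 ⊢
  exact h3

/-- The norm cuts out the preimage of a saturated open. -/
theorem basicOpen_isNm [IsFinite g] [IsReduced X] (hR : 1 ≤ R) (hd : DenseFree g R) (hF : HasForms g R M)
    {U V : X.Opens} (hVU : V ≤ U) (s : Γ(X', g ⁻¹ᵁ U)) (hs : X'.basicOpen s = g ⁻¹ᵁ V) {z : Γ(M.Z, M.h ⁻¹ᵁ U)}
    (hz : IsNm g R M s z) : M.Z.basicOpen z = M.h ⁻¹ᵁ V := by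
  refine le_antisymm (fun w hw => ?_) fun w hw => ?_
  swap
  · have hu : IsUnit (rs (g.preimage_mono hVU) s) := by
      rw [← rs_rs (X'.basicOpen_le s) hs.ge]
      exact (RingedSpace.isUnit_res_basicOpen X'.toRingedSpace s).map _
    obtain ⟨t, ht⟩ := hu.exists_right_inv
    obtain ⟨zt, hzt⟩ := exists_isNm hd hF V t
    have h1 := (hz.res hVU).mul hzt
    rw [ht] at h1
    have h2 := IsUnit.of_mul_eq_one zt (IsNm.unique hd h1 isNm_one)
    rw [M.Z.mem_basicOpen z w (M.h.preimage_mono hVU hw)]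
    have h3 := h2.map (M.Z.presheaf.germ (M.h ⁻¹ᵁ V) w hw).hom
    simp only [rs, TopCat.Presheaf.germ_res_apply] at h3
    exact h3
  · by_contra hwV
    have hxU : M.h w ∈ U := M.Z.basicOpen_le z hw
    obtain ⟨U₀, m, b, Q, hx, hU₀, hb, hQ⟩ := hF (M.h w)
    obtain ⟨f, hf, hxf⟩ := hU₀.exists_basicOpen_le (V := U) ⟨M.h w, hxU⟩ hx
    let D : X.Opens := X.basicOpen f
    have hD : IsAffineOpen D := hU₀.basicOpen f
    letI := (g.app D).hom.toAlgebra
    let bD : Fin m → Γ(X', g ⁻¹ᵁ D) := fun l => rs (g.preimage_mono (X.basicOpen_le f)) (b l)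
    have hbD : Submodule.span Γ(X, D) (Set.range bD) = ⊤ := top_le_iff.mp fun c _ => by
      obtain ⟨a, ha⟩ := exists_comb hU₀ b hb f c
      exact (Submodule.mem_span_range_iff_exists_fun _).mpr ⟨a, ha⟩
    let p := (hD.primeIdealOf ⟨M.h w, hxf⟩).asIdeal
    let sD := rs (g.preimage_mono hf) s
    have hrad : sD ∈ (p.map (g.app D).hom).radical := by
      rw [Ideal.radical_eq_sInf]
      refine Submodule.mem_sInf.mpr fun Q' ⟨hle, hQ'⟩ => ?_
      by_contra hns
      let P : PrimeSpectrum Γ(X', g ⁻¹ᵁ D) := ⟨Q', hQ'⟩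
      have h1 : (hD.preimage g).fromSpec P ∈ g ⁻¹ᵁ V := by
        rw [← hs]
        have h2 : P ∈ (hD.preimage g).fromSpec ⁻¹ᵁ X'.basicOpen sD := by
          rw [(hD.preimage g).fromSpec_preimage_basicOpen]
          exact hns
        have h3 : (hD.preimage g).fromSpec P ∈ X'.basicOpen sD := h2
        rw [show sD = X'.presheaf.map (homOfLE (g.preimage_mono hf)).op s from rfl, Scheme.basicOpen_res] at h3
        exact h3.2
      have h4 : g ((hD.preimage g).fromSpec P) = hD.fromSpec (Spec.map (g.app D) P) := by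
        rw [← Scheme.Hom.comp_apply, ← Scheme.Hom.comp_apply, g.app_eq_appLE,
          IsAffineOpen.SpecMap_appLE_fromSpec g hD (hD.preimage g)]
      change g ((hD.preimage g).fromSpec P) ∈ V at h1
      rw [h4] at h1
      have h5 : hD.primeIdealOf ⟨M.h w, hxf⟩ ⤳ Spec.map (g.app D) P :=
        (PrimeSpectrum.le_iff_specializes (hD.primeIdealOf ⟨M.h w, hxf⟩) (Spec.map (g.app D) P)).mp
          (Ideal.map_le_iff_le_comap.mp hle)
      have h6 := (h5.map hD.fromSpec.continuous).mem_open V.2 h1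
      rw [hD.fromSpec_primeIdealOf ⟨M.h w, hxf⟩] at h6
      exact hwV h6
    obtain ⟨k, hk⟩ := hrad
    have hk' : sD ^ k ∈ p • Submodule.span Γ(X, D) (Set.range bD) := by
      rw [hbD, Ideal.smul_top_eq_map]
      exact hk
    obtain ⟨a, hap, hak⟩ := (Submodule.mem_ideal_smul_span_iff_exists_sum p bD _).mp hk'
    have hsum : ∑ l, g.app D (a l) * bD l = sD ^ k := by
      rw [← hak, Finsupp.sum_fintype a (fun i c => c • bD i) fun i => zero_smul _ _]
      exact Finset.sum_congr rfl fun l _ => rfl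
    let Q' := MvPolynomial.map (M.Z.presheaf.map (homOfLE (M.h.preimage_mono (X.basicOpen_le f))).op).hom Q
    have e1 : (rs (M.h.preimage_mono hf) z) ^ k = MvPolynomial.eval (fun l => M.h.app D (a l)) Q' := by
      refine IsNm.unique hd ((hz.res hf).pow k) ?_
      have := isNm_eval hQ (X.basicOpen_le f) a
      rw [hsum] at this
      exact this
    have e0 : MvPolynomial.constantCoeff Q' = 0 := by
      have h0 := isNm_eval hQ (X.basicOpen_le f) (0 : Fin m → Γ(X, D))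
      simp only [Pi.zero_apply, map_zero, zero_mul, Finset.sum_const_zero] at h0
      have h00 : IsNm g R M (0 : Γ(X', g ⁻¹ᵁ D)) 0 := by
        have := isNm_app (M := M) (g := g) (R := R) (0 : Γ(X, D))
        rwa [map_zero, map_zero, zero_pow (by omega)] at this
      rw [← MvPolynomial.eval_zero]
      exact IsNm.unique hd h0 h00
    let φ := (IsLocalRing.residue (M.Z.presheaf.stalk w)).comp (M.Z.presheaf.germ (M.h ⁻¹ᵁ D) w hxf).hom
    have hφ : ∀ l, φ (M.h.app D (a l)) = 0 := fun l => by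
      have hmem : X.presheaf.germ D (M.h w) hxf (a l) ∈ IsLocalRing.maximalIdeal _ := by
        refine (IsLocalRing.mem_maximalIdeal _).mpr fun hu => ?_
        have h1 : hD.primeIdealOf ⟨M.h w, hxf⟩ ∈ hD.fromSpec ⁻¹ᵁ X.basicOpen (a l) := by
          change hD.fromSpec (hD.primeIdealOf ⟨M.h w, hxf⟩) ∈ X.basicOpen (a l)
          rw [hD.fromSpec_primeIdealOf ⟨M.h w, hxf⟩]
          exact (X.mem_basicOpen (a l) _ hxf).mpr hu
        rw [hD.fromSpec_preimage_basicOpen] at h1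
        exact h1 (hap l)
      change IsLocalRing.residue _ (M.Z.presheaf.germ _ w hxf (M.h.app D (a l))) = 0
      rw [IsLocalRing.residue_eq_zero_iff, ← Scheme.Hom.germ_stalkMap_apply]
      exact (IsLocalRing.mem_maximalIdeal _).mpr fun hu => (IsLocalRing.mem_maximalIdeal _).mp hmem
        (isUnit_of_map_unit (M.h.stalkMap w).hom _ hu)
    have h7 : φ (rs (M.h.preimage_mono hf) z) ^ k = 0 := by
      rw [← map_pow, e1, show MvPolynomial.eval (fun l => M.h.app D (a l)) Q' =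
        MvPolynomial.eval₂ (RingHom.id _) (fun l => M.h.app D (a l)) Q' from rfl,
        MvPolynomial.eval₂_comp_left, RingHom.comp_id, show (φ ∘ fun l => M.h.app D (a l)) = 0 from funext hφ,
        MvPolynomial.eval₂_zero_apply, e0, map_zero]
    have h8 : φ (rs (M.h.preimage_mono hf) z) = 0 := by
      rcases Nat.eq_zero_or_pos k with rfl | hk0
      · rw [pow_zero] at h7
        exact absurd h7 one_ne_zero
      · exact eq_zero_of_pow_eq_zero h7
    have hu : IsUnit (φ (rs (M.h.preimage_mono hf) z)) := by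
      refine IsUnit.map (IsLocalRing.residue (M.Z.presheaf.stalk w)) ?_
      simp only [rs, TopCat.Presheaf.germ_res_apply]
      exact (M.Z.mem_basicOpen z w hxU).mp hw
    rw [h8] at hu
    exact not_isUnit_zero hu

end NormModelLib
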