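import Groth.Agent.NormDescLib.IntegralCoeff
import Mathlib.RingTheory.Polynomial.IsIntegral
import Mathlib.LinearAlgebra.Matrix.Basis
import Mathlib.RingTheory.TensorProduct.Finite
import Mathlib.RingTheory.MvPolynomial.Basic

/-!
# The norm form of a free algebra
-/

set_option autoImplicit false
universe u

noncomputable section

open MvPolynomial
open scoped TensorProduct

namespace NormModelLib

variable {A B : Type u} [CommRing A] [CommRing B] [Algebra A B] {n m : ℕ}

/-- The matrix of multiplication by the general linear combination of `b`. -/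
def genMat (e : Module.Basis (Fin n) A B) (b : Fin m → B) : Matrix (Fin n) (Fin n) (MvPolynomial (Fin m) A) :=
  ∑ l, (X l : MvPolynomial (Fin m) A) • (Algebra.leftMulMatrix e (b l)).map C

/-- The norm of the general linear combination of `b`. -/
def normPoly (e : Module.Basis (Fin n) A B) (b : Fin m → B) : MvPolynomial (Fin m) A := (genMat e b).det

theorem genMat_map {A' : Type u} [CommRing A'] (e : Module.Basis (Fin n) A B) (b : Fin m → B) (ρ : A →+* A') :
    (genMat e b).map (MvPolynomial.map ρ) =
      ∑ l, (X l : MvPolynomial (Fin m) A') • ((Algebra.leftMulMatrix e (b l)).map ρ).map C := by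
  refine Matrix.ext fun i j => ?_
  simp [genMat, Matrix.sum_apply]

theorem eval_normPoly (e : Module.Basis (Fin n) A B) (b : Fin m → B) (a : Fin m → A) :
    MvPolynomial.eval a (normPoly e b) = Algebra.norm A (∑ l, a l • b l) := by
  rw [normPoly, RingHom.map_det, Algebra.norm_eq_matrix_det e, map_sum]
  refine congrArg Matrix.det (Matrix.ext fun i j => ?_)
  simp [genMat, Matrix.sum_apply]

/-- Change of scalars of the norm form. -/
theorem map_normPoly {A' B' : Type u} [CommRing A'] [CommRing B'] [Algebra A' B'] (ρA : A →+* A') (ρB : B →+* B')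
    (comm : ∀ a, algebraMap A' B' (ρA a) = ρB (algebraMap A B a)) (e : Module.Basis (Fin n) A B)
    (e' : Module.Basis (Fin n) A' B') (he : ∀ j, e' j = ρB (e j)) (b : Fin m → B) :
    MvPolynomial.map ρA (normPoly e b) = normPoly e' fun l => ρB (b l) := by
  have hM : ∀ x : B, Algebra.leftMulMatrix e' (ρB x) = (Algebra.leftMulMatrix e x).map ρA := fun x => by
    refine Matrix.ext fun i j => ?_
    rw [Matrix.map_apply, Algebra.leftMulMatrix_eq_repr_mul, Algebra.leftMulMatrix_eq_repr_mul, he, ← map_mul]
    conv_lhs => rw [← e.sum_repr (x * e j), map_sum]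
    simp only [Algebra.smul_def, map_mul, ← comm, ← he]
    simp only [← Algebra.smul_def]
    exact congrFun (e'.repr_sum_self fun k => ρA (e.repr (x * e j) k)) i
  rw [normPoly, normPoly, RingHom.map_det, RingHom.mapMatrix_apply, genMat_map]
  simp only [genMat, hM]

/-- The norm form does not depend on the basis. -/
theorem normPoly_indep (e e' : Module.Basis (Fin n) A B) (b : Fin m → B) : normPoly e b = normPoly e' b := by
  let T : Matrix (Fin n) (Fin n) (MvPolynomial (Fin m) A) := (e.toMatrix e').map C
  let S : Matrix (Fin n) (Fin n) (MvPolynomial (Fin m) A) := (e'.toMatrix e).map C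
  have hTS : T * S = 1 := by
    simp only [T, S]
    rw [← Matrix.map_mul, e.toMatrix_mul_toMatrix_flip e', Matrix.map_one _ C.map_zero C.map_one]
  have hconj : ∀ x : B, T * (Algebra.leftMulMatrix e' x).map C * S = (Algebra.leftMulMatrix e x).map C := fun x => by
    simp only [T, S]
    rw [← Matrix.map_mul, ← Matrix.map_mul]
    refine congrArg (fun M : Matrix (Fin n) (Fin n) A => M.map C) ?_
    exact basis_toMatrix_mul_linearMap_toMatrix_mul_basis_toMatrix e e' e e' (Algebra.lmul A B x)
  have h : genMat e b = T * genMat e' b * S := by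
    rw [genMat, genMat, Finset.mul_sum, Finset.sum_mul]
    refine Finset.sum_congr rfl fun l _ => ?_
    rw [Matrix.mul_smul, Matrix.smul_mul, hconj]
  rw [normPoly, normPoly, h, Matrix.det_mul, Matrix.det_mul, mul_right_comm, ← Matrix.det_mul, hTS, Matrix.det_one,
    one_mul]

attribute [local instance] MvPolynomial.algebraMvPolynomial in
/-- The coefficients of the norm form are integral. -/
theorem isIntegral_coeff_normPoly {A₀ B₀ : Type u} [CommRing A₀] [CommRing B₀] [Algebra A₀ B₀] [Module.Finite A₀ B₀]
    [Algebra A₀ A] [IsDomain A] (ρB : B₀ →+* B)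
    (comm : ∀ a, ρB (algebraMap A₀ B₀ a) = algebraMap A B (algebraMap A₀ A a))
    (e : Module.Basis (Fin n) A B) (b : Fin m → B₀) (ν : Fin m →₀ ℕ) :
    IsIntegral A₀ ((normPoly e fun l => ρB (b l)).coeff ν) := by
  let μ : B₀ →ₐ[A₀] Matrix (Fin n) (Fin n) (MvPolynomial (Fin m) A) :=
    { (((C : A →+* MvPolynomial (Fin m) A).mapMatrix).comp (Algebra.leftMulMatrix e).toRingHom).comp ρB with
      commutes' := fun a => by
        change (Algebra.leftMulMatrix e (ρB (algebraMap A₀ B₀ a))).map C = _
        rw [comm, AlgHom.commutes, Algebra.algebraMap_eq_smul_one (A := Matrix (Fin n) (Fin n) (MvPolynomial (Fin m) A))]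
        refine Matrix.ext fun i j => ?_
        by_cases h : i = j
        · subst h; simp [Matrix.algebraMap_matrix_apply, ← Algebra.algebraMap_eq_smul_one]
        · simp [Matrix.algebraMap_matrix_apply, h] }
  let R₀ := MvPolynomial (Fin m) A₀
  let Φ : R₀ ⊗[A₀] B₀ →ₐ[R₀] Matrix (Fin n) (Fin n) (MvPolynomial (Fin m) A) :=
    Algebra.TensorProduct.lift (Algebra.ofId R₀ _) μ fun r x => Algebra.commutes r _
  obtain ⟨g, hg, hgs⟩ := IsIntegral.of_finite R₀ (∑ l, (X l : R₀) ⊗ₜ[A₀] b l)
  have hΦ : Φ (∑ l, (X l : R₀) ⊗ₜ[A₀] b l) = genMat e fun l => ρB (b l) := by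
    rw [map_sum, genMat]
    refine Finset.sum_congr rfl fun l _ => ?_
    refine (Algebra.TensorProduct.lift_tmul _ _ _ (X l : R₀) (b l)).trans ?_
    change algebraMap R₀ _ (X l) * (Algebra.leftMulMatrix e (ρB (b l))).map C = _
    rw [← Algebra.smul_def]
    refine Matrix.ext fun i j => ?_
    simp [Algebra.smul_def]
    exact Or.inl (MvPolynomial.map_X _ _)
  have hM : Polynomial.aeval (genMat e fun l => ρB (b l)) g = 0 := by
    rw [← hΦ, Polynomial.aeval_algHom_apply, show Polynomial.aeval (∑ l, (X l : R₀) ⊗ₜ[A₀] b l) g = 0 from hgs,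
      map_zero]
  have h0 := NormDescLib.isIntegral_charpoly_coeff (genMat e fun l => ρB (b l)) g hg hM 0
  have hdet : IsIntegral R₀ (normPoly e fun l => ρB (b l)) := by
    rw [normPoly, Matrix.det_eq_sign_charpoly_coeff]
    exact ((IsIntegral.neg isIntegral_one).pow _).mul h0
  exact MvPolynomial.isIntegral_iff_isIntegral_coeff.mp hdet ν

end NormModelLib
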